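import Mathlib
import Cfsg.Agent.Lib.BenderOne20.Bridge
import Cfsg.Agent.Lib.BenderOne20.Triangle
import Cfsg.Agent.Lib.IsolatedInvolution.InvariantSylow

/-!
# Bender's theorem, part one: fixed point sets under property (F)

In an action in which every involution fixes one point and every swapper centralises the
stabiliser of the two swapped points and its fixed point, a subgroup fixing several points has a
normaliser without four groups, unless all its involutions centralise it.
-/

set_option autoImplicit false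
set_option linter.style.haveILetI false

namespace Cfsg.Agent.Lib.BenderOne8

open MulAction Cfsg.Agent.Lib.Involutions.Basic
open Cfsg.Agent.Lib.BenderOne20

variable {G Ω : Type*} [Group G] [MulAction G Ω]

/-- Property (F): a swapper of two points centralises their common stabiliser with its fixed
point. -/
def PropF (G Ω : Type*) [Group G] [MulAction G Ω] : Prop :=
  ∀ (u : G) (x y c : Ω), x ≠ y → u ∈ swapSet G x y → u • c = c →
    pairStab G x y ⊓ stabilizer G c ≤ Subgroup.centralizer {u}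

/-- The fixed points of a subgroup. -/
def Fx (X : Subgroup G) : Set Ω :=
  {x | X ≤ stabilizer G x}

theorem mem_Fx {X : Subgroup G} {x : Ω} : x ∈ Fx X ↔ X ≤ stabilizer G x :=
  Iff.rfl

theorem Fx_anti {X Y : Subgroup G} (h : X ≤ Y) {x : Ω} (hx : x ∈ (Fx Y : Set Ω)) : x ∈ Fx X :=
  h.trans hx

theorem le_pairStab {X : Subgroup G} {x y : Ω} (hx : x ∈ Fx X) (hy : y ∈ Fx X) :
    X ≤ pairStab G x y :=
  le_inf hx hy

theorem smul_mem_Fx {X : Subgroup G} {g : G} (hg : g ∈ Subgroup.normalizer (X : Set G)) {x : Ω}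
    (hx : x ∈ Fx X) : g • x ∈ Fx X := by
  intro k hk
  have h := hx ((Subgroup.mem_normalizer_iff''.1 hg k).1 hk)
  rw [mem_stabilizer_iff, mul_smul, mul_smul, inv_smul_eq_iff] at h
  exact h

variable [Finite G]

theorem odd_of_isPGroup {p : ℕ} [Fact p.Prime] (hp : p ≠ 2) {U : Subgroup G} (hU : IsPGroup p U) :
    Odd (Nat.card U) := by
  obtain ⟨n, hn⟩ := IsPGroup.iff_card.1 hU
  rw [hn]
  exact ((Fact.out : p.Prime).odd_of_ne_two hp).pow

omit [Finite G] in
/-- An element of odd order does not interchange two points. -/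
theorem smul_eq_of_odd {g : G} (hg : Odd (orderOf g)) {x y : Ω} (hx : g • x = y) (hy : g • y = x) :
    x = y := by
  obtain ⟨k, hk⟩ := hg
  have h2 : ∀ j : ℕ, (g ^ (2 * j)) • x = x := fun j => by
    induction j with
    | zero => simp
    | succ j ih => rw [show 2 * (j + 1) = 2 + 2 * j by ring, pow_add, mul_smul, ih, pow_two,
        mul_smul, hx, hy]
  have h := pow_orderOf_eq_one g
  rw [hk, pow_succ'] at h
  rw [← hx]
  nth_rewrite 2 [← h2 k]
  rw [smul_smul, h, one_smul]

variable (hG : OneFix G Ω) (hF : PropF G Ω)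
include hG

/-- An element interchanging two fixed points of `U` inside the normaliser gives an involution
doing so. -/
theorem swap_in_normalizer {U : Subgroup G} {x y : Ω} (hxy : x ≠ y) {g : G}
    (hg : g ∈ Subgroup.normalizer (U : Set G)) (hx : g • x = y) (hy : g • y = x) :
    ∃ w ∈ Subgroup.normalizer (U : Set G), w ∈ swapSet G x y := by
  have hmem : g ^ 2 ∈ pairStab G x y := by
    refine ⟨?_, ?_⟩
    · show g ^ 2 • x = x
      rw [pow_two, mul_smul, hx, hy]
    · show g ^ 2 • y = y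
      rw [pow_two, mul_smul, hy, hx]
  obtain ⟨k, hk⟩ := (hG.odd_pairStab hxy).of_dvd_nat (Subgroup.orderOf_dvd_natCard _ hmem)
  set o := orderOf (g ^ 2) with ho
  have hox : g ^ o • x = y := by
    have h2 : (g ^ 2) ^ k • x = x := (pow_mem hmem k).1
    rw [hk, pow_succ', pow_mul, mul_smul, h2, hx]
  have hsq : g ^ o * g ^ o = 1 := by
    rw [← pow_add, ← two_mul, pow_mul, ho, pow_orderOf_eq_one]
  exact ⟨g ^ o, pow_mem hg o, invol_iff.2 ⟨hsq, fun h => hxy (by rw [← hox, h, one_smul])⟩, hox⟩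

/-- Two points with a common Sylow subgroup `U` of their stabiliser are interchanged in `N(U)`. -/
theorem swap_of_sylowIn {p : ℕ} [Fact p.Prime] {U : Subgroup G} {x y : Ω} (hxy : x ≠ y)
    (hU : SylowIn p U (pairStab G x y)) :
    ∃ w ∈ Subgroup.normalizer (U : Set G), w ∈ swapSet G x y := by
  obtain ⟨w, hw⟩ := hG.swapSet_nonempty hxy
  have hmap : (pairStab G x y).map (MulAut.conj w).toMonoidHom = pairStab G x y := by
    refine Subgroup.eq_of_le_of_card_ge ?_
      (le_of_eq (Subgroup.card_map_of_injective (MulAut.conj w).injective).symm)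
    rintro _ ⟨k, ⟨hkx, hky⟩, rfl⟩
    refine ⟨?_, ?_⟩
    · show (w * k * w⁻¹) • x = x
      rw [invol_inv hw.1, mul_smul, mul_smul, hw.2, (hky : k • y = y), smul_swap hw]
    · show (w * k * w⁻¹) • y = y
      rw [invol_inv hw.1, mul_smul, mul_smul, smul_swap hw, (hkx : k • x = x), hw.2]
  have h3 : SylowIn p (U.map (MulAut.conj w).toMonoidHom) (pairStab G x y) := hmap ▸ hU.map_conj w
  obtain ⟨d, hd, hd'⟩ := h3.conj_eq hU
  have hN : d * w ∈ Subgroup.normalizer (U : Set G) := by
    rw [Subgroup.mem_normalizer_iff_map_conj_eq]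
    refine Eq.trans ?_ hd'
    rw [Subgroup.map_map]
    congr 1
    ext k
    simp [mul_assoc]
  exact swap_in_normalizer hG hxy hN (by rw [mul_smul, hw.2, (hd.2 : d • y = y)])
    (by rw [mul_smul, smul_swap hw, (hd.1 : d • x = x)])

include hF

omit [Finite G] in
/-- An involution normalising `U` and fixing one of its fixed points centralises it. -/
theorem cent_of_fix {U : Subgroup G} {x y : Ω} (hx : x ∈ Fx U) (hy : y ∈ Fx U) (hxy : x ≠ y)
    {w : G} (hw : w ∈ invAt G x) (hwN : w ∈ Subgroup.normalizer (U : Set G)) :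
    U ≤ Subgroup.centralizer {w} := by
  have hwy : y ≠ w • y := fun h => hxy (hG.eq_of_fix hw.1 hw.2 h.symm)
  exact (le_inf (le_pairStab hy (smul_mem_Fx hwN hy)) hx).trans
    (hF w y (w • y) x hwy ⟨hw.1, rfl⟩ hw.2)

/-- If some involution of `N(U)` acts non-trivially on `U`, none fixes a fixed point of `U`. -/
theorem no_fix {U : Subgroup G} {z : G} (hz : orderOf z = 2)
    (hzN : z ∈ Subgroup.normalizer (U : Set G)) (hzc : ¬ U ≤ Subgroup.centralizer {z})
    {x y : Ω} (hx : x ∈ Fx U) (hy : y ∈ Fx U) (hxy : x ≠ y)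
    {w : G} (hw : orderOf w = 2) (hwN : w ∈ Subgroup.normalizer (U : Set G)) {e : Ω}
    (he : e ∈ Fx U) : w • e ≠ e := by
  intro hwe
  have hcent : ∀ {f : Ω}, f ∈ Fx U → ∀ {v : G}, v ∈ invAt G f →
      v ∈ Subgroup.normalizer (U : Set G) → U ≤ Subgroup.centralizer {v} := by
    intro f hf v hv hvN
    obtain ⟨f', hf', hne⟩ : ∃ f' ∈ (Fx U : Set Ω), f ≠ f' := by
      by_cases h : f = x
      · exact ⟨y, hy, h.trans_ne hxy⟩
      · exact ⟨x, hx, h⟩
    exact cent_of_fix hG hF hf hf' hne hv hvN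
  have hUw : U ≤ Subgroup.centralizer {w} := hcent he ⟨hw, hwe⟩ hwN
  obtain ⟨d, hd⟩ := hG.exists_fix hz
  have hde : e ≠ d := fun h => hzc (hcent he ⟨hz, h ▸ hd⟩ hzN)
  obtain ⟨g, hg, hgw⟩ := exists_conj_of_odd (invol_mul_self hw) (invol_mul_self hz)
    (hG.odd_mul ⟨hw, hwe⟩ ⟨hz, hd⟩ hde)
  have hgN : g ∈ Subgroup.normalizer (U : Set G) := by
    refine (Subgroup.closure_le _).2 ?_ hg
    rintro v (rfl | rfl)
    · exact hwN
    · exact hzN
  refine hzc fun k hk => ?_
  have h := hUw ((Subgroup.mem_normalizer_iff''.1 hgN k).1 hk)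
  rw [Subgroup.mem_centralizer_singleton_iff] at h ⊢
  rw [← hgw]
  calc k * (g * w * g⁻¹) = g * (g⁻¹ * k * g * w) * g⁻¹ := by group
    _ = g * (w * (g⁻¹ * k * g)) * g⁻¹ := by rw [h]
    _ = g * w * g⁻¹ * k := by group

/-- Then `N(U)` has no two distinct commuting involutions. -/
theorem eq_of_commute {U : Subgroup G} (hUodd : Odd (Nat.card U)) {z : G} (hz : orderOf z = 2)
    (hzN : z ∈ Subgroup.normalizer (U : Set G)) (hzc : ¬ U ≤ Subgroup.centralizer {z})
    {x y : Ω} (hx : x ∈ Fx U) (hy : y ∈ Fx U) (hxy : x ≠ y)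
    {a b : G} (ha : orderOf a = 2) (hb : orderOf b = 2)
    (haN : a ∈ Subgroup.normalizer (U : Set G)) (hbN : b ∈ Subgroup.normalizer (U : Set G))
    (hab : a * b = b * a) : a = b := by
  by_contra hne
  obtain ⟨d, hd⟩ := hG.exists_fix ha
  have hbd : b • d = d := hG.smul_eq_of_commute ⟨ha, hd⟩ hab
  exact no_fix hG hF hz hzN hzc hx hy hxy ha haN (e := d)
    (fun k hk => hG.smul_eq_of_four hUodd ⟨ha, hd⟩ ⟨hb, hbd⟩ hne hab haN hbN hk) hd

theorem isolated {U : Subgroup G} (hUodd : Odd (Nat.card U)) {z : G} (hz : orderOf z = 2)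
    (hzN : z ∈ Subgroup.normalizer (U : Set G)) (hzc : ¬ U ≤ Subgroup.centralizer {z})
    {x y : Ω} (hx : x ∈ Fx U) (hy : y ∈ Fx U) (hxy : x ≠ y)
    {w : G} (hw : orderOf w = 2) (hwN : w ∈ Subgroup.normalizer (U : Set G)) :
    Cfsg.IsIsolatedInvolution (⟨w, hwN⟩ : Subgroup.normalizer (U : Set G)) := by
  refine ⟨by rw [Subgroup.orderOf_mk, hw], fun g h => Subtype.ext ?_⟩
  exact eq_of_commute hG hF hUodd hz hzN hzc hx hy hxy ((orderOf_conj_eq _ _).trans hw) hw
    (mul_mem (mul_mem g.2 hwN) (inv_mem g.2)) hwN (congrArg Subtype.val h).symm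

/-- Three fixed points of `U` are not pairwise interchanged by involutions of `N(U)`. -/
theorem not_all_swapped {U : Subgroup G} (hUodd : Odd (Nat.card U)) {z : G} (hz : orderOf z = 2)
    (hzN : z ∈ Subgroup.normalizer (U : Set G)) (hzc : ¬ U ≤ Subgroup.centralizer {z})
    {x y c : Ω} (hx : x ∈ Fx U) (hy : y ∈ Fx U) (hxy : x ≠ y)
    {s₁ s₂ s₃ : G} (h1 : s₁ ∈ Subgroup.normalizer (U : Set G))
    (h2 : s₂ ∈ Subgroup.normalizer (U : Set G)) (h3 : s₃ ∈ Subgroup.normalizer (U : Set G))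
    (hs1 : s₁ ∈ swapSet G x y) (hs2 : s₂ ∈ swapSet G y c) (hs3 : s₃ ∈ swapSet G x c) : False := by
  set N := Subgroup.normalizer (U : Set G) with hN
  set O := Cfsg.oddCore ↥N
  have hinv : ∀ {w : G} (hwN : w ∈ N), orderOf w = 2 →
      ∀ g : N, (⟨w, hwN⟩ : N) * g * (⟨w, hwN⟩ : N)⁻¹ * g⁻¹ ∈ O := fun hwN hw g =>
    IsolatedInvolution.InvariantSylow.commutator_mem
      (isolated hG hF hUodd hz hzN hzc hx hy hxy hw hwN) g
  have hmul : ∀ {v w : G} (hvN : v ∈ N) (hwN : w ∈ N), orderOf v = 2 → orderOf w = 2 →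
      (⟨v, hvN⟩ : N) * ⟨w, hwN⟩ ∈ O := by
    intro v w hvN hwN hv hw
    have hodd : Odd (orderOf (v * w)) := by
      by_contra he
      rw [Nat.not_odd_iff_even] at he
      obtain ⟨hr, hrv, hrw⟩ := central_invol hv hw he
      have hrN : (v * w) ^ (orderOf (v * w) / 2) ∈ N := pow_mem (mul_mem hvN hwN) _
      have e1 := eq_of_commute hG hF hUodd hz hzN hzc hx hy hxy hr hv hrN hvN hrv.eq
      have e2 := eq_of_commute hG hF hUodd hz hzN hzc hx hy hxy hr hw hrN hwN hrw.eq
      rw [e1.symm.trans e2, invol_mul_self hw, orderOf_one] at he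
      exact Nat.not_even_one he
    obtain ⟨g, hg, hgw⟩ := exists_conj_of_odd (invol_mul_self hv) (invol_mul_self hw) hodd
    have hgN : g ∈ N := by
      refine (Subgroup.closure_le _).2 ?_ hg
      rintro r (rfl | rfl)
      · exact hvN
      · exact hwN
    have h := hinv hvN hv ⟨g, hgN⟩
    convert h using 1
    apply Subtype.ext
    show v * w = v * g * v⁻¹ * g⁻¹
    rw [← hgw, invol_inv hv]
    group
  set e : G := s₁ * s₂ * s₃ with he
  have heN : e ∈ N := mul_mem (mul_mem h1 h2) h3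
  have hex : e • x = x := by
    rw [he, mul_smul, mul_smul, hs3.2, smul_swap hs2, smul_swap hs1]
  have hOodd : Odd (Nat.card O) := oddCore_odd
  have heven : Even (orderOf e) := by
    by_contra hodd
    rw [Nat.not_even_iff_odd] at hodd
    obtain ⟨k, hk⟩ := hodd
    set t : N := ⟨s₃, h3⟩
    set o : N := (⟨s₁, h1⟩ : N) * ⟨s₂, h2⟩
    have ho : o ∈ O := hmul h1 h2 hs1.1 hs2.1
    have ht : t * t = 1 := Subtype.ext (invol_mul_self hs3.1)
    have hsq : (o * t) ^ 2 ∈ O := by
      have hc : t * o * t⁻¹ ∈ O := (inferInstance : O.Normal).conj_mem o ho t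
      have htinv : t⁻¹ = t := inv_eq_of_mul_eq_one_right ht
      rw [htinv] at hc
      have := mul_mem ho hc
      simpa [pow_two, mul_assoc] using this
    have hpow : (o * t) ^ (2 * k + 1) = 1 := Subtype.ext (by
      show (s₁ * s₂ * s₃) ^ (2 * k + 1) = 1
      rw [← hk, pow_orderOf_eq_one])
    have hot : o * t ∈ O := by
      have : o * t = ((o * t) ^ 2) ^ (k + 1) := by
        rw [← pow_mul, show 2 * (k + 1) = 2 * k + 1 + 1 by ring, pow_succ, hpow, one_mul]
      rw [this]
      exact pow_mem hsq _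
    have htO : t ∈ O := by simpa using mul_mem (inv_mem ho) hot
    refine (odd_card_iff_no_invol _).1 hOodd t htO ?_
    rw [Subgroup.orderOf_mk]
    exact hs3.1
  have hr := orderOf_pow_half heven
  refine no_fix hG hF hz hzN hzc hx hy hxy hr (pow_mem heN _) hx ?_
  exact (pow_mem (show e ∈ stabilizer G x from hex) _ : e ^ (orderOf e / 2) ∈ stabilizer G x)

end Cfsg.Agent.Lib.BenderOne8
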