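import Mathlib
import Cfsg.Agent.Lib.BenderOne8.Basic

/-!
# Bender's theorem, part one: conjugates of an involution under a `p`-subgroup of a pair stabiliser

For a swapper `z` of two points with stabiliser `D`, the number of `R`-conjugates of `z`, for a
`z`-invariant `p`-subgroup `R` of `D`, is at most the `p`-part of the number of swappers, with
equality for Sylow subgroups.
-/

set_option autoImplicit false
set_option linter.style.haveILetI false

namespace Cfsg.Agent.Lib.BenderOne8

open MulAction Cfsg.Agent.Lib.Involutions.Basic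
open Cfsg.Agent.Lib.BenderOne20

variable {G Ω : Type*} [Group G] [MulAction G Ω]

/-- The number of `X`-conjugates of `z`. -/
noncomputable def cnt (X : Subgroup G) (z : G) : ℕ :=
  Nat.card ↥((fun k => k * z * k⁻¹) '' (X : Set G))

theorem card_eq_cnt_mul (X : Subgroup G) (z : G) :
    Nat.card X = cnt X z * Nat.card ↥(X ⊓ Subgroup.centralizer {z}) := by
  refine OneFix.card_eq_orbit_mul X (s := z) ⟨1, X.one_mem, by simp⟩ ?_ ?_
  · rintro d hd t ⟨k, hk, rfl⟩
    exact ⟨d * k, mul_mem hd hk, by group⟩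
  · rintro t ⟨k, hk, rfl⟩
    exact ⟨k, hk, rfl⟩

variable [Finite G]

theorem cnt_mono {X Y : Subgroup G} (h : X ≤ Y) (z : G) : cnt X z ≤ cnt Y z :=
  Nat.card_mono (Set.toFinite _) (Set.image_mono h)

omit [Finite G] in
theorem cnt_eq_one {X : Subgroup G} {z : G} (h : X ≤ Subgroup.centralizer {z}) : cnt X z = 1 := by
  have : (fun k => k * z * k⁻¹) '' (X : Set G) = {z} := by
    refine Set.Subset.antisymm ?_ ?_
    · rintro _ ⟨k, hk, rfl⟩
      exact mul_inv_eq_iff_eq_mul.2 (Subgroup.mem_centralizer_singleton_iff.1 (h hk))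
    · rintro _ rfl
      exact ⟨1, X.one_mem, by simp⟩
  rw [cnt, this]
  simp

omit [Finite G] in
theorem cnt_map_conj (X : Subgroup G) (z g : G) :
    cnt (X.map (MulAut.conj g).toMonoidHom) (g * z * g⁻¹) = cnt X z := by
  have : (fun k => k * (g * z * g⁻¹) * k⁻¹) '' (X.map (MulAut.conj g).toMonoidHom : Set G) =
      (MulAut.conj g) '' ((fun k => k * z * k⁻¹) '' (X : Set G)) := by
    rw [Subgroup.coe_map, ← Set.image_comp, ← Set.image_comp]
    refine Set.image_congr fun k _ => ?_
    simp only [Function.comp_apply, MulEquiv.coe_toMonoidHom, MulAut.conj_apply]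
    group
  rw [cnt, cnt, this, Nat.card_image_of_injective (MulAut.conj g).injective]

/-- Between subgroups with as many conjugates of `z`, invariance of the smaller one is inherited
by everything in between. -/
theorem mem_normalizer_of_cnt {X T Y : Subgroup G} {z : G} (hXT : X ≤ T) (hTY : T ≤ Y)
    (hz : z ∈ Subgroup.normalizer (X : Set G)) (hc : cnt Y z ≤ cnt X z) :
    z ∈ Subgroup.normalizer (T : Set G) := by
  have heq : (fun k => k * z * k⁻¹) '' (X : Set G) = (fun k => k * z * k⁻¹) '' (Y : Set G) :=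
    Set.eq_of_subset_of_ncard_le (Set.image_mono (hXT.trans hTY)) hc (Set.toFinite _)
  refine Subgroup.mem_normalizer_iff_map_conj_eq.2
    (Subgroup.eq_of_le_of_card_ge ?_
      (le_of_eq (Subgroup.card_map_of_injective (MulAut.conj z).injective).symm))
  rintro _ ⟨t, ht, rfl⟩
  obtain ⟨k, hk, hkz⟩ : t * z * t⁻¹ ∈ (fun k => k * z * k⁻¹) '' (X : Set G) :=
    heq ▸ ⟨t, hTY ht, rfl⟩
  have h1 : z * (k⁻¹ * t) * z⁻¹ = k⁻¹ * t := by
    have h2 : k * z * k⁻¹ = t * z * t⁻¹ := hkz
    rw [mul_inv_eq_iff_eq_mul]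
    calc z * (k⁻¹ * t) = k⁻¹ * (k * z * k⁻¹) * t := by group
      _ = k⁻¹ * (t * z * t⁻¹) * t := by rw [h2]
      _ = k⁻¹ * t * z := by group
  have h3 : (z * k * z⁻¹) * (z * (k⁻¹ * t) * z⁻¹) = z * t * z⁻¹ := by group
  show z * t * z⁻¹ ∈ T
  rw [← h3, h1]
  exact mul_mem (hXT ((Subgroup.mem_normalizer_iff.1 hz k).1 hk))
    (mul_mem (inv_mem (hXT hk)) ht)

variable {p : ℕ} [Fact p.Prime]

theorem zpowers_le_normalizer_pairStab {x y : Ω} {z : G} (hz : z ∈ swapSet G x y) :
    Subgroup.zpowers z ≤ Subgroup.normalizer (pairStab G x y : Set G) := by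
  rw [Subgroup.zpowers_le]
  refine Subgroup.mem_normalizer_iff_map_conj_eq.2
    (Subgroup.eq_of_le_of_card_ge ?_
      (le_of_eq (Subgroup.card_map_of_injective (MulAut.conj z).injective).symm))
  rintro _ ⟨k, ⟨hkx, hky⟩, rfl⟩
  refine ⟨?_, ?_⟩
  · show (z * k * z⁻¹) • x = x
    rw [invol_inv hz.1, mul_smul, mul_smul, hz.2, (hky : k • y = y), smul_swap hz]
  · show (z * k * z⁻¹) • y = y
    rw [invol_inv hz.1, mul_smul, mul_smul, smul_swap hz, (hkx : k • x = x), hz.2]

variable (hG : OneFix G Ω)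
include hG

theorem coprime_zpowers {x y : Ω} (hxy : x ≠ y) {z : G} (hz : z ∈ swapSet G x y) :
    (Nat.card (Subgroup.zpowers z)).Coprime (Nat.card (pairStab G x y)) := by
  rw [Nat.card_zpowers, hz.1]
  exact Nat.coprime_two_left.2 (hG.odd_pairStab hxy)

/-- An invariant Sylow subgroup of a pair stabiliser exists. -/
theorem exists_sylowIn {x y : Ω} (hxy : x ≠ y) {z : G} (hz : z ∈ swapSet G x y) :
    ∃ T, SylowIn p T (pairStab G x y) ∧ z ∈ Subgroup.normalizer (T : Set G) := by
  obtain ⟨S, hS⟩ := Lib.Coprime.exists_invariant_sylow (zpowers_le_normalizer_pairStab hz)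
    (coprime_zpowers hG hxy hz) (Or.inl inferInstance) p
  exact ⟨_, ⟨Subgroup.map_subtype_le _, Lib.Coprime.card_sylow_map S⟩,
    hS (Subgroup.mem_zpowers z)⟩

/-- A Sylow subgroup of the pair stabiliser has `p`-part of `m` conjugates of the swapper. -/
theorem cnt_sylowIn {x y : Ω} (hxy : x ≠ y) {z : G} (hz : z ∈ swapSet G x y) {T : Subgroup G}
    (hT : SylowIn p T (pairStab G x y)) (hzT : z ∈ Subgroup.normalizer (T : Set G)) :
    cnt T z = p ^ (Nat.card (invAt G x)).factorization p := by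
  haveI : Nonempty ↥(invAt G x) := (hG.exists_invAt x).elim fun s hs => ⟨⟨s, hs⟩⟩
  set D := pairStab G x y
  set C := D ⊓ Subgroup.centralizer {z}
  have hzD := zpowers_le_normalizer_pairStab hz
  have hcop := coprime_zpowers hG hxy hz
  obtain ⟨Q, hQ, hTQ⟩ := SylowIn.exists_ge (D := C) (p := p)
    (hT.isPGroup.to_le (inf_le_left : T ⊓ Subgroup.centralizer {z} ≤ T))
    (inf_le_inf_right _ hT.1)
  have hQz : Subgroup.zpowers z ≤ Subgroup.normalizer (Q : Set G) := by
    refine Subgroup.zpowers_le.2 (Subgroup.mem_normalizer_iff.2 fun k => ?_)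
    constructor
    · intro hk
      rwa [mul_inv_eq_iff_eq_mul.2 (Subgroup.mem_centralizer_singleton_iff.1 (hQ.1 hk).2).symm]
    · intro hk
      have h := Subgroup.mem_centralizer_singleton_iff.1 (hQ.1 hk).2
      have : z * k * z⁻¹ = k := by
        calc z * k * z⁻¹ = z⁻¹ * ((z * k * z⁻¹) * z) := by rw [h]; group
          _ = z⁻¹ * z * k := by group
          _ = k := by group
      rwa [this] at hk
  obtain ⟨P, hQP, hPz⟩ := Lib.Coprime.exists_invariant_sylow_ge hzD hcop (Or.inl inferInstance) p Q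
    (hQ.1.trans inf_le_left) hQ.isPGroup hQz
  obtain ⟨S, hS⟩ := Lib.Coprime.exists_sylow_of_card hT.1 hT.2
  obtain ⟨c, hc, hcS⟩ := Lib.Coprime.exists_conj_invariant_sylow hzD hcop (Or.inl inferInstance)
    P S hPz (by rw [hS]; exact Subgroup.zpowers_le.2 hzT)
  have hcz : c * z = z * c :=
    (Subgroup.mem_centralizer_iff.1 hc.2 z (Subgroup.mem_zpowers z)).symm
  have hle : Q.map (MulAut.conj c).toMonoidHom ≤ T ⊓ Subgroup.centralizer {z} := by
    rintro _ ⟨k, hk, rfl⟩
    refine ⟨?_, ?_⟩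
    · rw [← hS, ← hcS]
      exact Subgroup.smul_mem_pointwise_smul k (MulAut.conj c) _ (hQP hk)
    · refine Subgroup.mem_centralizer_singleton_iff.2 ?_
      have hkz := Subgroup.mem_centralizer_singleton_iff.1 (hQ.1 hk).2
      exact ((Commute.mul_left (Commute.mul_left hcz hkz) (Commute.inv_left hcz)) :
        Commute (c * k * c⁻¹) z)
  have hCT : Nat.card ↥(T ⊓ Subgroup.centralizer {z}) =
      p ^ (Nat.card C).factorization p := by
    rw [← hQ.2]
    refine le_antisymm (Subgroup.card_le_of_le hTQ) ?_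
    have := Subgroup.card_le_of_le hle
    rwa [Subgroup.card_map_of_injective (MulAut.conj c).injective] at this
  have h1 := card_eq_cnt_mul T z
  rw [hT.2, hCT, hG.card_pairStab_swap hxy hz,
    Nat.factorization_mul Nat.card_pos.ne' Nat.card_pos.ne',
    Finsupp.add_apply, pow_add] at h1
  exact Nat.eq_of_mul_eq_mul_right (pow_pos (Fact.out : p.Prime).pos _) h1.symm

/-- Every invariant `p`-subgroup of a pair stabiliser has at most that many conjugates. -/
theorem cnt_le {x y : Ω} (hxy : x ≠ y) {z : G} (hz : z ∈ swapSet G x y) {R : Subgroup G}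
    (hRD : R ≤ pairStab G x y) (hR : IsPGroup p R) (hzR : z ∈ Subgroup.normalizer (R : Set G)) :
    cnt R z ≤ p ^ (Nat.card (invAt G x)).factorization p := by
  obtain ⟨S, hRS, hS⟩ := Lib.Coprime.exists_invariant_sylow_ge (zpowers_le_normalizer_pairStab hz)
    (coprime_zpowers hG hxy hz) (Or.inl inferInstance) p R hRD hR (Subgroup.zpowers_le.2 hzR)
  exact (cnt_mono hRS z).trans (cnt_sylowIn hG hxy hz
    ⟨Subgroup.map_subtype_le _, Lib.Coprime.card_sylow_map S⟩ (hS (Subgroup.mem_zpowers z))).le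

end Cfsg.Agent.Lib.BenderOne8
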