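import Mathlib

/-!
# Bender's theorem, part one: a regular normal subgroup from fixed point transitivity

A finite group acts with solvable point stabiliser `D`.  Suppose for every subgroup `X` of prime
power order of `D` the centraliser of `X` is transitive on the fixed points of `X`, whose number
is prime to `|D|`.  Then the elements of order prime to `|D|` form a regular normal subgroup.
-/

set_option autoImplicit false
set_option linter.style.haveILetI false

namespace Cfsg.Agent.Lib.BenderOne8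

open MulAction Subgroup

/-- The hypothesis on fixed points of subgroups of prime power order. -/
def FixTrans (A : Type*) {Λ : Type*} [Group A] [MulAction A Λ] (b : Λ) : Prop :=
  ∀ (p : ℕ) (X : Subgroup A), p.Prime → IsPGroup p X → X ≤ stabilizer A b →
    (Nat.card {y : Λ // X ≤ stabilizer A y}).Coprime (Nat.card (stabilizer A b)) ∧
      ∀ y : Λ, X ≤ stabilizer A y → ∃ g ∈ centralizer (X : Set A), g • b = y

variable {A Λ : Type*} [Group A] [MulAction A Λ] [Finite A] {b : Λ}

theorem FixTrans.pretransitive (h : FixTrans A b) : IsPretransitive A Λ := by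
  have key : ∀ y : Λ, ∃ g : A, g • b = y := fun y =>
    ((h 2 ⊥ Nat.prime_two IsPGroup.of_bot bot_le).2 y bot_le).imp fun g hg => hg.2
  refine ⟨fun x y => ?_⟩
  obtain ⟨g, rfl⟩ := key x
  obtain ⟨g', rfl⟩ := key y
  exact ⟨g' * g⁻¹, by rw [mul_smul, inv_smul_smul]⟩

theorem FixTrans.coprime_card (h : FixTrans A b) :
    (Nat.card Λ).Coprime (Nat.card (stabilizer A b)) := by
  have h1 := (h 2 ⊥ Nat.prime_two IsPGroup.of_bot bot_le).1
  rwa [Nat.card_congr (Equiv.subtypeUnivEquiv fun y => bot_le)] at h1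

/-- A homomorphism to an abelian group of exponent a power of `p` defined on the stabiliser and
non-trivial on it. -/
theorem exists_hom {D : Type*} [Group D] [Finite D] [Group.IsSolvable D] [Nontrivial D] :
    ∃ (p a : ℕ) (φ : D →* Abelianization D), p.Prime ∧ (∀ d, φ d ^ (p ^ a) = 1) ∧
      ∃ d, φ d ≠ 1 := by
  haveI : Finite (Abelianization D) :=
    Finite.of_surjective _ (QuotientGroup.mk'_surjective (commutator D))
  haveI : Nontrivial (Abelianization D) :=
    QuotientGroup.nontrivial_iff.2 (Group.IsSolvable.commutator_lt_top_of_nontrivial D).ne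
  set N := Nat.card (Abelianization D)
  have hN : 1 < N := Finite.one_lt_card
  obtain ⟨p, hp, hpN⟩ := Nat.exists_prime_and_dvd hN.ne'
  haveI : Fact p.Prime := ⟨hp⟩
  obtain ⟨r, hr, hpr⟩ : ∃ r, N = p ^ N.factorization p * r ∧ ¬ p ∣ r :=
    ⟨N / p ^ N.factorization p, (Nat.ordProj_mul_ordCompl_eq_self N p).symm,
      Nat.not_dvd_ordCompl hp (by omega)⟩
  refine ⟨p, N.factorization p, (powMonoidHom r).comp Abelianization.of, hp, fun d => ?_, ?_⟩
  · rw [MonoidHom.comp_apply, powMonoidHom_apply, ← pow_mul, mul_comm, ← hr, pow_card_eq_one']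
  · obtain ⟨z, hz⟩ := exists_prime_orderOf_dvd_card' (G := Abelianization D) p hpN
    obtain ⟨d, rfl⟩ := QuotientGroup.mk'_surjective (commutator D) z
    refine ⟨d, fun h => hpr ?_⟩
    rw [← hz]
    exact orderOf_dvd_of_pow_eq_one h

/-- One step of the induction: the kernel of a transfer. -/
theorem FixTrans.exists_step (h : FixTrans A b) [Group.IsSolvable (stabilizer A b)]
    [Nontrivial (stabilizer A b)] :
    ∃ (p : ℕ) (N : Subgroup A), p.Prime ∧ p ∣ Nat.card (stabilizer A b) ∧
      N ⊓ stabilizer A b < stabilizer A b ∧ FixTrans N b ∧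
      ∀ x : A, (orderOf x).Coprime p → x ∈ N := by
  classical
  haveI := h.pretransitive
  set D := stabilizer A b with hD
  obtain ⟨p, a, φ, hp, hφ, d₀, hd₀⟩ := exists_hom (D := D)
  haveI : Fact p.Prime := ⟨hp⟩
  have hpD : p ∣ Nat.card D := by
    have h1 : orderOf (φ d₀) ∣ p ^ a := orderOf_dvd_of_pow_eq_one (hφ d₀)
    obtain ⟨i, -, hi⟩ := (Nat.dvd_prime_pow hp).1 h1
    rcases Nat.eq_zero_or_pos i with rfl | hi0
    · exact absurd (orderOf_eq_one_iff.1 (by rw [hi, pow_zero])) hd₀
    · exact ((dvd_pow_self p hi0.ne').trans (hi ▸ orderOf_map_dvd φ d₀)).trans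
        (orderOf_dvd_natCard d₀)
  have hidx : D.index = Nat.card Λ := index_stabilizer_of_transitive A b
  have hpidx : ¬ p ∣ D.index := fun hc => hp.not_dvd_one
    (h.coprime_card ▸ Nat.dvd_gcd (hidx ▸ hc) hpD : p ∣ 1)
  set V := MonoidHom.transfer φ
  have hVexp : ∀ g : A, V g ^ (p ^ a) = 1 := fun g => by
    haveI : Fintype (Quotient (orbitRel (zpowers g) (A ⧸ D))) := Fintype.ofFinite _
    rw [show V g = _ from MonoidHom.transfer_eq_prod_quotient_orbitRel_zpowers_quot φ g,
      ← Finset.prod_pow]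
    exact Finset.prod_eq_one fun q _ => hφ _
  have hpow : ∀ (q : ℕ), q.Prime → ∀ x : D, (∃ i, orderOf x = q ^ i) →
      V x = φ x ^ D.index := by
    rintro q hq x ⟨i, hi⟩
    haveI : Fintype (Quotient (orbitRel (zpowers (x : A)) (A ⧸ D))) := Fintype.ofFinite _
    rw [show V x = _ from MonoidHom.transfer_eq_prod_quotient_orbitRel_zpowers_quot φ (x : A),
      Subgroup.index_eq_sum_minimalPeriod D (x : A), ← Finset.prod_pow_eq_pow_sum]
    refine Finset.prod_congr rfl fun o _ => ?_
    set k := Function.minimalPeriod ((x : A) • ·) o.out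
    set g₀ : A := o.out.out
    have hmem : g₀⁻¹ * (x : A) ^ k * g₀ ∈ D :=
      QuotientGroup.out_conj_pow_minimalPeriod_mem D (x : A) o.out
    have hX : IsPGroup q (zpowers ((x : A) ^ k)) := by
      have h1 : IsPGroup q (zpowers (x : A)) :=
        IsPGroup.of_card (n := i) (by rw [Nat.card_zpowers, Subgroup.orderOf_coe, hi])
      exact h1.to_le (zpowers_le.2 (pow_mem (mem_zpowers _) k))
    have hfix : zpowers ((x : A) ^ k) ≤ stabilizer A (g₀ • b) := by
      rw [zpowers_le]
      have h1 : (g₀⁻¹ * (x : A) ^ k * g₀) • b = b := hmem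
      rwa [mul_smul, mul_smul, inv_smul_eq_iff] at h1
    obtain ⟨g, hg, hgb⟩ := (h q _ hq hX (zpowers_le.2 (pow_mem x.2 k))).2 _ hfix
    have hd : g₀⁻¹ * g ∈ D := by
      show (g₀⁻¹ * g) • b = b
      rw [mul_smul, hgb, inv_smul_smul]
    have hcomm : (x : A) ^ k * g = g * (x : A) ^ k :=
      mem_centralizer_iff.1 hg _ (mem_zpowers _)
    have heq : (⟨g₀⁻¹ * (x : A) ^ k * g₀, hmem⟩ : D) =
        ⟨g₀⁻¹ * g, hd⟩ * x ^ k * ⟨g₀⁻¹ * g, hd⟩⁻¹ := by
      refine Subtype.ext ?_
      show g₀⁻¹ * (x : A) ^ k * g₀ = g₀⁻¹ * g * (x : A) ^ k * (g₀⁻¹ * g)⁻¹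
      rw [mul_assoc g₀⁻¹ g, ← hcomm]
      group
    show φ ⟨g₀⁻¹ * (x : A) ^ k * g₀, hmem⟩ = φ x ^ k
    rw [heq, map_mul, map_mul, map_inv, mul_comm (φ _) (φ (x ^ k)), mul_assoc, mul_inv_cancel,
      mul_one, map_pow]
  have hVD : ∀ d : D, V d = φ d ^ D.index := by
    intro d
    obtain ⟨r, hr, hpr⟩ : ∃ r, orderOf d = p ^ (orderOf d).factorization p * r ∧ ¬ p ∣ r :=
      ⟨_, (Nat.ordProj_mul_ordCompl_eq_self _ p).symm,
        Nat.not_dvd_ordCompl hp (orderOf_pos d).ne'⟩
    have hr0 : r ≠ 0 := fun h0 => hpr (h0 ▸ dvd_zero p)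
    have h1 : (V d / φ d ^ D.index) ^ r = 1 := by
      rw [div_pow, div_eq_one, ← map_pow, ← pow_mul, mul_comm, pow_mul, ← map_pow,
        ← SubmonoidClass.coe_pow]
      refine hpow p hp (d ^ r) ?_
      obtain ⟨i, -, hi⟩ := (Nat.dvd_prime_pow hp).1
        (orderOf_dvd_of_pow_eq_one (x := d ^ r) (n := p ^ (orderOf d).factorization p) (by
          rw [← pow_mul, mul_comm, ← hr, pow_orderOf_eq_one]))
      exact ⟨i, hi⟩
    have h2 : (V d / φ d ^ D.index) ^ (p ^ a) = 1 := by
      rw [div_pow, hVexp, ← pow_mul, mul_comm, pow_mul, hφ, one_pow, div_one]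
    have h3 := pow_gcd_eq_one.2 ⟨h1, h2⟩
    rw [Nat.Coprime.gcd_eq_one ((hp.coprime_iff_not_dvd.2 hpr).symm.pow_right a), pow_one,
      div_eq_one] at h3
    exact h3
  set N := V.ker
  have hlift : ∀ (q : ℕ) (X : Subgroup A), q.Prime → IsPGroup q X → X ≤ D →
      ∀ g ∈ centralizer (X : Set A), ∃ g' ∈ centralizer (X : Set A), g' ∈ N ∧ g' • b = g • b := by
    intro q X hq hX hXD g hg
    set C := centralizer (X : Set A)
    set ψ : C →* (V.comp C.subtype).range := (V.comp C.subtype).rangeRestrict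
    set S := stabilizer C b
    have hsurj : Function.Surjective ψ := MonoidHom.rangeRestrict_surjective _
    have hpr : IsPGroup p (V.comp C.subtype).range := by
      rintro ⟨_, x, rfl⟩
      exact ⟨a, Subtype.ext (hVexp _)⟩
    have hCfix : ∀ y : Λ, y ∈ orbit C b ↔ X ≤ stabilizer A y := by
      intro y
      constructor
      · rintro ⟨c, rfl⟩ k hk
        show k • (c : A) • b = (c : A) • b
        rw [smul_smul, mem_centralizer_iff.1 c.2 k hk, mul_smul, (hXD hk : k • b = b)]
      · intro hy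
        obtain ⟨c, hc, hcb⟩ := (h q X hq hX hXD).2 y hy
        exact ⟨⟨c, hc⟩, hcb⟩
    have htop : S.map ψ = ⊤ := by
      rw [← index_eq_one]
      refine Nat.eq_one_of_dvd_coprimes (a := Nat.card {y : Λ // X ≤ stabilizer A y})
        (b := Nat.card D) (h q X hq hX hXD).1 ?_ ?_
      · refine (S.index_map_dvd hsurj).trans (dvd_of_eq ?_)
        rw [index_stabilizer, ← Nat.card_coe_set_eq]
        exact Nat.card_congr (Equiv.subtypeEquivRight hCfix)
      · obtain ⟨j, hj⟩ := hpr.exists_card_eq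
        obtain ⟨i, -, hi⟩ := (Nat.dvd_prime_pow hp).1 (hj ▸ (S.map ψ).index_dvd_card)
        rcases Nat.eq_zero_or_pos i with rfl | hi0
        · rw [hi, pow_zero]; exact one_dvd _
        · have hne : (S.map ψ).index ≠ 1 := by
            rw [hi]; exact (Nat.one_lt_pow hi0.ne' hp.one_lt).ne'
          have hdvd : (S.map ψ).index ∣ Nat.card {y : Λ // X ≤ stabilizer A y} := by
            refine (S.index_map_dvd hsurj).trans (dvd_of_eq ?_)
            rw [index_stabilizer, ← Nat.card_coe_set_eq]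
            exact Nat.card_congr (Equiv.subtypeEquivRight hCfix)
          exact absurd (Nat.dvd_gcd ((dvd_pow_self p hi0.ne').trans (hi ▸ hdvd)) hpD)
            (by rw [(h q X hq hX hXD).1]; exact hp.not_dvd_one)
    obtain ⟨d, hd, hdg⟩ : ψ ⟨g, hg⟩ ∈ S.map ψ := htop ▸ mem_top _
    refine ⟨g * (d : A)⁻¹, mul_mem hg (inv_mem d.2), ?_, ?_⟩
    · show V (g * (d : A)⁻¹) = 1
      rw [map_mul, map_inv, show V (d : A) = V g from congrArg Subtype.val hdg, mul_inv_cancel]
    · rw [mul_smul]
      congr 1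
      exact inv_smul_eq_iff.2 (show (d : A) • b = b from hd).symm
  have hdvdN : Nat.card (stabilizer N b) ∣ Nat.card D :=
    card_dvd_of_injective ((N.subtype.comp (stabilizer N b).subtype).codRestrict D fun d => d.2)
      (fun x y hxy => Subtype.ext (Subtype.ext (congrArg (fun z : D => (z : A)) hxy :)))
  refine ⟨p, N, hp, hpD, lt_of_le_of_ne inf_le_right fun he => hd₀ ?_, ?_, fun x hx => ?_⟩
  · have h1 : (d₀ : A) ∈ N := (he.ge d₀.2).1
    have h2 : φ d₀ ^ D.index = 1 := (hVD d₀).symm.trans h1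
    have h3 := pow_gcd_eq_one.2 ⟨h2, hφ d₀⟩
    rwa [Nat.Coprime.gcd_eq_one ((hp.coprime_iff_not_dvd.2 hpidx).symm.pow_right a), pow_one] at h3
  · intro q X hq hX hXb
    have hXb' : X.map N.subtype ≤ D := by
      rintro _ ⟨k, hk, rfl⟩
      exact hXb hk
    have hiff : ∀ y : Λ, X ≤ stabilizer N y ↔ X.map N.subtype ≤ stabilizer A y := fun y => by
      rw [map_le_iff_le_comap]
      rfl
    obtain ⟨hcop, htr⟩ := h q (X.map N.subtype) hq (hX.map _) hXb'
    refine ⟨?_, fun y hy => ?_⟩
    · rw [Nat.card_congr (Equiv.subtypeEquivRight hiff)]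
      exact hcop.coprime_dvd_right hdvdN
    · obtain ⟨g, hg, hgy⟩ := htr y ((hiff y).1 hy)
      obtain ⟨g', hg', hg'N, hg'b⟩ := hlift q _ hq (hX.map _) hXb' g hg
      exact ⟨⟨g', hg'N⟩, mem_centralizer_iff.2 fun k hk => Subtype.ext
        (mem_centralizer_iff.1 hg' k ⟨k, hk, rfl⟩), hg'b.trans hgy⟩
  · show V x = 1
    have h3 := pow_gcd_eq_one.2 ⟨hVexp x, (by rw [← map_pow, pow_orderOf_eq_one, map_one] :
      V x ^ orderOf x = 1)⟩
    rwa [Nat.Coprime.gcd_eq_one (hx.symm.pow_left a), pow_one] at h3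

/-- The elements of order prime to the order of the stabiliser form a regular normal subgroup. -/
theorem FixTrans.exists_regular.{u, v} : ∀ (n : ℕ) {A : Type u} {Λ : Type v} [Group A]
    [MulAction A Λ] [Finite A] {b : Λ}, Nat.card (stabilizer A b) = n →
    Group.IsSolvable (stabilizer A b) → FixTrans A b →
    ∃ R : Subgroup A, (∀ x, x ∈ R ↔ (orderOf x).Coprime (Nat.card (stabilizer A b))) ∧
      ∀ y : Λ, ∃ r ∈ R, r • b = y := by
  intro n
  induction n using Nat.strong_induction_on with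
  | _ n ih =>
    intro A Λ _ _ _ b hn hsolv h
    haveI := h.pretransitive
    rcases subsingleton_or_nontrivial (stabilizer A b) with hs | hs
    · refine ⟨⊤, fun x => ?_, fun y => ?_⟩
      · rw [Nat.card_of_subsingleton (1 : stabilizer A b)]
        exact iff_of_true (mem_top x) (Nat.coprime_one_right _)
      · exact (exists_smul_eq A b y).imp fun g hg => ⟨mem_top g, hg⟩
    obtain ⟨p, N, hp, hpD, hlt, hN, hpN⟩ := h.exists_step
    haveI := Fact.mk hp
    let f : stabilizer N b →* stabilizer A b :=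
      (N.subtype.comp (stabilizer N b).subtype).codRestrict _ fun d => d.2
    have hfinj : Function.Injective f := fun x y hxy =>
      Subtype.ext (Subtype.ext (congrArg (fun z : stabilizer A b => (z : A)) hxy :))
    have hlt' : Nat.card (stabilizer N b) < n := by
      rw [← hn]
      refine lt_of_le_of_ne (Nat.card_le_card_of_injective f hfinj) fun he => hlt.ne ?_
      refine le_antisymm inf_le_right fun d hd => ⟨?_, hd⟩
      obtain ⟨d', hd'⟩ := (Nat.bijective_iff_injective_and_card f).2 ⟨hfinj, he⟩ |>.2 ⟨d, hd⟩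
      have h1 : ((d' : N) : A) = d := congrArg Subtype.val hd'
      exact h1 ▸ (d' : N).2
    obtain ⟨R, hR, hRt⟩ := ih _ hlt' rfl (Group.isSolvable_of_isSolvable_injective (f := f) hfinj) hN
    have hdvd : Nat.card (stabilizer N b) ∣ Nat.card (stabilizer A b) :=
      Subgroup.card_dvd_of_injective f hfinj
    have hRcard : Nat.card R = Nat.card Λ := by
      refine Nat.card_eq_of_bijective (fun r : R => (r : N) • b) ⟨fun r s hrs => ?_, fun y => ?_⟩
      · have hrs' : (r : N) • b = (s : N) • b := hrs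
        have h1 : (s : N)⁻¹ * r ∈ stabilizer N b := by
          show ((s : N)⁻¹ * r) • b = b
          rw [mul_smul, hrs', inv_smul_smul]
        have h2 : orderOf ((s : N)⁻¹ * r) = 1 := Nat.Coprime.eq_one_of_dvd
          ((hR _).1 (mul_mem (inv_mem s.2) r.2)) (Subgroup.orderOf_dvd_natCard _ h1)
        exact Subtype.ext (inv_mul_eq_one.1 (orderOf_eq_one_iff.1 h2)).symm
      · obtain ⟨r, hr, hrb⟩ := hRt y
        exact ⟨⟨r, hr⟩, hrb⟩
    refine ⟨R.map N.subtype, fun x => ⟨?_, fun hx => ?_⟩, fun y => ?_⟩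
    · rintro ⟨r, hr, rfl⟩
      refine h.coprime_card.coprime_dvd_left ?_
      rw [← hRcard]
      exact (orderOf_map_dvd N.subtype r).trans (Subgroup.orderOf_dvd_natCard _ hr)
    · have hxN := hpN x (hx.coprime_dvd_right hpD)
      exact ⟨⟨x, hxN⟩, (hR _).2 (by
        rw [Subgroup.orderOf_mk]; exact hx.coprime_dvd_right hdvd), rfl⟩
    · obtain ⟨r, hr, hrb⟩ := hRt y
      exact ⟨r, ⟨r, hr, rfl⟩, hrb⟩

end Cfsg.Agent.Lib.BenderOne8
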