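import Mathlib
import Cfsg.Agent.Lib.BenderOne8.Count

/-!
# Bender's theorem, part one: property (F) gives double transitivity

Let `p` be a prime divisor of the number `m` of involutions fixing a point. Every two-point
stabiliser contains a Sylow `p`-subgroup of `G`, and such a subgroup fixes exactly two points, so
a point stabiliser is transitive on the other points.
-/

set_option autoImplicit false
set_option linter.style.haveILetI false

namespace Cfsg.Agent.Lib.BenderOne8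

open MulAction Cfsg.Agent.Lib.Involutions.Basic
open Cfsg.Agent.Lib.BenderOne20

variable {G Ω : Type*} [Group G] [MulAction G Ω] [Finite G] {p : ℕ} [Fact p.Prime]

/-- A `p`-subgroup with the order of a Sylow subgroup of `G` is Sylow in any subgroup over it. -/
theorem sylowIn_of_card {T D : Subgroup G} (hTD : T ≤ D)
    (hT : Nat.card T = p ^ (Nat.card G).factorization p) : SylowIn p T D := by
  obtain ⟨S, hS, hTS⟩ := SylowIn.exists_ge (IsPGroup.of_card hT) hTD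
  have htop : SylowIn p T (⊤ : Subgroup G) := ⟨le_top, by rw [Subgroup.card_top, hT]⟩
  rw [← htop.eq_of_le hTS le_top hS.isPGroup]
  exact hS

/-- A Sylow subgroup of a pair stabiliser fixing no third point is a Sylow subgroup of `G`. -/
theorem card_eq_of_fix_two (hp : p ≠ 2) {T : Subgroup G} {x y : Ω} (hxy : x ≠ y)
    (hT : SylowIn p T (pairStab G x y)) (h2 : ∀ e ∈ (Fx T : Set Ω), e = x ∨ e = y) :
    Nat.card T = p ^ (Nat.card G).factorization p := by
  obtain ⟨S, hS, hTS⟩ := SylowIn.exists_ge hT.isPGroup (le_top : T ≤ ⊤)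
  have hTS' : SylowIn p T S := SylowIn.of_normalizer hTS hT (by
    rintro g ⟨hgS, hgN⟩
    have hodd : Odd (orderOf g) :=
      (odd_of_isPGroup hp hS.isPGroup).of_dvd_nat (S.orderOf_dvd_natCard hgS)
    have hx := h2 _ (smul_mem_Fx hgN (hT.1.trans inf_le_left : x ∈ Fx T))
    have hy := h2 _ (smul_mem_Fx hgN (hT.1.trans inf_le_right : y ∈ Fx T))
    rcases hx with hx | hx
    · refine ⟨hx, ?_⟩
      rcases hy with hy | hy
      · exact absurd (MulAction.injective g (hy.trans hx.symm)) hxy.symm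
      · exact hy
    · rcases hy with hy | hy
      · exact absurd (smul_eq_of_odd hodd hx hy) hxy
      · exact absurd (MulAction.injective g (hx.trans hy.symm)) hxy)
  rw [← hTS'.eq_of_le hTS le_rfl hS.isPGroup, hS.2, Subgroup.card_top]

variable (hG : OneFix G Ω) (hF : PropF G Ω) {a₀ : Ω} (hpm : p ∣ Nat.card (invAt G a₀))
include hG hF hpm

omit hF in
theorem ne_two : p ≠ 2 := by
  rintro rfl
  haveI := hG.nontrivial
  obtain ⟨b, hb⟩ := exists_ne a₀
  obtain ⟨s, hs⟩ := hG.exists_invAt a₀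
  have h := (hG.odd_pairStab hb.symm).of_dvd_nat
    (hpm.trans ⟨_, hG.card_pairStab_invAt hb.symm hs⟩)
  exact absurd h (by decide)

omit hF hpm [Fact p.Prime] [Finite G] in
theorem pow_eq (x : Ω) : p ^ (Nat.card (invAt G x)).factorization p =
    p ^ (Nat.card (invAt G a₀)).factorization p := by
  rw [hG.card_invAt x a₀]

omit hF in
theorem not_le_centralizer {U : Subgroup G} {z : G}
    (h : cnt U z = p ^ (Nat.card (invAt G a₀)).factorization p) :
    ¬ U ≤ Subgroup.centralizer {z} := by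
  intro hc
  haveI : Nonempty ↥(invAt G a₀) := (hG.exists_invAt a₀).elim fun s hs => ⟨⟨s, hs⟩⟩
  rw [cnt_eq_one hc] at h
  exact (Nat.one_lt_pow ((Fact.out : p.Prime).factorization_pos_of_dvd Nat.card_pos.ne' hpm).ne'
    (Fact.out : p.Prime).one_lt).ne h

/-- Some Sylow subgroup of `G` has exactly two fixed points. -/
theorem exists_sylow_fix_two : ∃ (T : Subgroup G) (a b : Ω), a ≠ b ∧
    Nat.card T = p ^ (Nat.card G).factorization p ∧
    ∀ e, e ∈ (Fx T : Set Ω) ↔ e = a ∨ e = b := by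
  have hp := ne_two hG hpm
  haveI := hG.nontrivial
  obtain ⟨b₀, hb₀⟩ := exists_ne a₀
  obtain ⟨z₀, hz₀⟩ := hG.swapSet_nonempty hb₀.symm
  obtain ⟨T₀, hT₀, -⟩ := exists_sylowIn (p := p) hG hb₀.symm hz₀
  set 𝒯 := {T : Subgroup G // IsPGroup p T ∧ ∃ x y : Ω, x ≠ y ∧ T ≤ pairStab G x y}
  haveI : Nonempty 𝒯 := ⟨⟨T₀, hT₀.isPGroup, _, _, hb₀.symm, hT₀.1⟩⟩
  obtain ⟨⟨T₁, hT₁, a, b, hab, hT₁le⟩, hmax⟩ := Finite.exists_max fun T : 𝒯 => Nat.card T.1
  have hbound : ∀ (T : Subgroup G) (x y : Ω), x ≠ y → IsPGroup p T → T ≤ pairStab G x y →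
      Nat.card T ≤ Nat.card T₁ :=
    fun T x y hxy hT hle => hmax ⟨T, hT, x, y, hxy, hle⟩
  obtain ⟨z, hz⟩ := hG.swapSet_nonempty hab
  obtain ⟨T, hT, hzT⟩ := exists_sylowIn (p := p) hG hab hz
  obtain ⟨T₂, hT₂, hT₁₂⟩ := SylowIn.exists_ge hT₁ hT₁le
  have hge : Nat.card T₁ ≤ Nat.card T := (Subgroup.card_le_of_le hT₁₂).trans (hT₂.2.trans hT.2.symm).le
  have hsyl : ∀ {x y : Ω}, x ∈ Fx T → y ∈ Fx T → x ≠ y → SylowIn p T (pairStab G x y) := by
    intro x y hx hy hxy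
    obtain ⟨T', hT', hTT'⟩ := SylowIn.exists_ge hT.isPGroup (le_pairStab hx hy)
    rw [Subgroup.eq_of_le_of_card_ge hTT' ((hbound T' x y hxy hT'.isPGroup hT'.1).trans hge)]
    exact hT'
  have ha : a ∈ Fx T := hT.1.trans inf_le_left
  have hb : b ∈ Fx T := hT.1.trans inf_le_right
  have hcnt := (cnt_sylowIn hG hab hz hT hzT).trans (pow_eq (p := p) (a₀ := a₀) hG a)
  have h2 : ∀ e ∈ (Fx T : Set Ω), e = a ∨ e = b := by
    intro e he
    by_contra! h
    obtain ⟨s₁, h1, hs1⟩ := swap_of_sylowIn hG hab (hsyl ha hb hab)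
    obtain ⟨s₂, h2, hs2⟩ := swap_of_sylowIn hG h.2.symm (hsyl hb he h.2.symm)
    obtain ⟨s₃, h3, hs3⟩ := swap_of_sylowIn hG h.1.symm (hsyl ha he h.1.symm)
    exact not_all_swapped hG hF (odd_of_isPGroup hp hT.isPGroup) hz.1 hzT
      (not_le_centralizer hG hpm hcnt) ha hb hab h1 h2 h3 hs1 hs2 hs3
  refine ⟨T, a, b, hab, card_eq_of_fix_two hp hab hT h2, fun e => ⟨h2 e, ?_⟩⟩
  rintro (rfl | rfl)
  · exact ha
  · exact hb

/-- Every `p`-subgroup fixes two points, and a Sylow subgroup of `G` no others. -/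
theorem exists_fix_two {R : Subgroup G} (hR : IsPGroup p R) :
    ∃ a b : Ω, a ≠ b ∧ a ∈ Fx R ∧ b ∈ Fx R ∧
      (Nat.card R = p ^ (Nat.card G).factorization p → ∀ e ∈ (Fx R : Set Ω), e = a ∨ e = b) := by
  obtain ⟨T, a, b, hab, hT, h2⟩ := exists_sylow_fix_two hG hF hpm
  obtain ⟨S, hS, hRS⟩ := SylowIn.exists_ge hR (le_top : R ≤ ⊤)
  obtain ⟨d, -, hd⟩ := (sylowIn_of_card (D := ⊤) le_top hT).conj_eq hS
  have hmem : ∀ e : Ω, d • e ∈ Fx S ↔ e ∈ Fx T := fun e => by
    rw [mem_Fx, mem_Fx, ← hd, Subgroup.map_le_iff_le_comap]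
    refine forall₂_congr fun k _ => ?_
    show (d * k * d⁻¹) • d • e = d • e ↔ k • e = e
    rw [mul_smul, mul_smul, inv_smul_smul, smul_left_cancel_iff]
  refine ⟨d • a, d • b, fun h => hab (MulAction.injective d h),
    Fx_anti hRS ((hmem a).2 ((h2 a).2 (Or.inl rfl))),
    Fx_anti hRS ((hmem b).2 ((h2 b).2 (Or.inr rfl))), fun hcard e he => ?_⟩
  have hRS' : R = S := Subgroup.eq_of_le_of_card_ge hRS (by rw [hS.2, Subgroup.card_top, hcard])
  rw [hRS', ← smul_inv_smul d e, hmem] at he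
  exact ((h2 _).1 he).imp (fun h => inv_smul_eq_iff.1 h) fun h => inv_smul_eq_iff.1 h

/-- A Sylow subgroup of a pair stabiliser is a Sylow subgroup of `G`. -/
theorem card_sylowIn {x₀ y₀ : Ω} (hxy₀ : x₀ ≠ y₀) {T₀ : Subgroup G}
    (hT₀ : SylowIn p T₀ (pairStab G x₀ y₀)) :
    Nat.card T₀ = p ^ (Nat.card G).factorization p := by
  by_contra hne
  have hp := ne_two hG hpm
  set M := p ^ (Nat.card (invAt G a₀)).factorization p
  obtain ⟨z₀, hz₀⟩ := hG.swapSet_nonempty hxy₀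
  obtain ⟨T, hT, hzT⟩ := exists_sylowIn (p := p) hG hxy₀ hz₀
  have hstart : IsPGroup p T ∧ (∃ a b c : Ω, a ≠ b ∧ c ≠ a ∧ c ≠ b ∧
      a ∈ Fx T ∧ b ∈ Fx T ∧ c ∈ Fx T) ∧
      ∃ z ∈ Subgroup.normalizer (T : Set G), orderOf z = 2 ∧ cnt T z = M := by
    refine ⟨hT.isPGroup, ?_, z₀, hzT, hz₀.1, ?_⟩
    · obtain ⟨c, hc, hca, hcb⟩ : ∃ c, c ∈ (Fx T : Set Ω) ∧ c ≠ x₀ ∧ c ≠ y₀ := by
        by_contra! h
        exact hne (hT₀.2.trans (hT.2.symm.trans (card_eq_of_fix_two hp hxy₀ hT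
          fun e he => or_iff_not_imp_left.2 (h e he))))
      exact ⟨x₀, y₀, c, hxy₀, hca, hcb, hT.1.trans inf_le_left, hT.1.trans inf_le_right, hc⟩
    · exact (cnt_sylowIn hG hxy₀ hz₀ hT hzT).trans (pow_eq (p := p) (a₀ := a₀) hG x₀)
  obtain ⟨U, -, ⟨hUp, ⟨a, b, c, hab, hca, hcb, ha, hb, hc⟩, z, hzN, hz, hcntU⟩, hmax⟩ :=
    Finite.exists_le_maximal (p := fun U : Subgroup G => IsPGroup p U ∧
      (∃ a b c : Ω, a ≠ b ∧ c ≠ a ∧ c ≠ b ∧ a ∈ Fx U ∧ b ∈ Fx U ∧ c ∈ Fx U) ∧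
      ∃ z ∈ Subgroup.normalizer (U : Set G), orderOf z = 2 ∧ cnt U z = M) hstart
  have hUodd := odd_of_isPGroup hp hUp
  have hzc := not_le_centralizer hG hpm hcntU
  set N := Subgroup.normalizer (U : Set G) with hN
  obtain ⟨S, hS⟩ := IsolatedInvolution.InvariantSylow.exists_invariant_sylow
    (isolated hG hF hUodd hz hzN hzc ha hb hab hz hzN) (p := p) hp
  set R := (S : Subgroup N).map N.subtype
  have hUN : U ≤ N := Subgroup.le_normalizer
  have hUR : U ≤ R := by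
    haveI : (U.subgroupOf N).Normal := Subgroup.normal_in_normalizer
    have h := Subgroup.map_mono (f := N.subtype)
      ((hUp.of_equiv (Subgroup.subgroupOfEquivOfLe hUN).symm).le_sylow_of_normal S)
    rwa [Subgroup.map_subgroupOf_eq_of_le hUN] at h
  have hzR : z ∈ Subgroup.normalizer (R : Set G) := Subgroup.le_normalizer_map _ ⟨_, hS, rfl⟩
  obtain ⟨e, he, hze⟩ : ∃ e ∈ (Fx R : Set Ω), z • e ≠ e := by
    obtain ⟨r₁, r₂, hne', h₁, h₂, -⟩ := exists_fix_two hG hF hpm (S.2.map N.subtype : IsPGroup p R)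
    by_cases h : z • r₁ = r₁
    · exact ⟨r₂, h₂, fun h' => hne' (hG.eq_of_fix hz h h')⟩
    · exact ⟨r₁, h₁, h⟩
  have hcntR : cnt R z ≤ M :=
    (cnt_le hG hze.symm ⟨hz, rfl⟩ (le_pairStab he (smul_mem_Fx hzR he)) (S.2.map _) hzR).trans_eq
      (pow_eq (p := p) (a₀ := a₀) hG e)
  have hswap : ∀ {x y : Ω}, x ∈ Fx U → y ∈ Fx U → x ≠ y → ∃ w ∈ N, w ∈ swapSet G x y := by
    intro x y hx hy hxy
    by_contra hno
    obtain ⟨T, hT, hUT⟩ := SylowIn.exists_ge (D := pairStab G x y ⊓ N) hUp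
      (le_inf (le_pairStab hx hy) hUN)
    rcases hUT.eq_or_lt with heq | hlt
    · exact hno (swap_of_sylowIn hG hxy
        (SylowIn.of_normalizer (le_pairStab hx hy) (heq ▸ hT) le_rfl))
    obtain ⟨S', hS'⟩ := (hT.isPGroup.of_equiv
      (Subgroup.subgroupOfEquivOfLe (hT.1.trans inf_le_right)).symm).exists_le_sylow
    obtain ⟨g, hg⟩ := MulAction.exists_smul_eq N S S'
    set R' := R.map (MulAut.conj (g : G)).toMonoidHom
    have hTR : T ≤ R' := by
      intro k hk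
      have h1 : (⟨k, (hT.1.trans inf_le_right) hk⟩ : N) ∈ (S' : Subgroup N) := hS' hk
      rw [← hg, Sylow.coe_subgroup_smul, Subgroup.mem_pointwise_smul_iff_inv_smul_mem] at h1
      refine ⟨_, ⟨_, h1, rfl⟩, ?_⟩
      simp [mul_assoc]
    have hmapU : U.map (MulAut.conj (g : G)).toMonoidHom = U :=
      Subgroup.mem_normalizer_iff_map_conj_eq.1 g.2
    set z' := (g : G) * z * (g : G)⁻¹
    have hz'N : z' ∈ N := mul_mem (mul_mem g.2 hzN) (inv_mem g.2)
    have hcU : cnt U z' = M := by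
      rw [← hmapU, cnt_map_conj, hcntU]
    have hcR : cnt R' z' ≤ M := (cnt_map_conj R z g).trans_le hcntR
    have hz'T : z' ∈ Subgroup.normalizer (T : Set G) :=
      mem_normalizer_of_cnt hUT hTR hz'N (hcR.trans hcU.ge)
    by_cases hfix : ∃ d ∈ (Fx T : Set Ω), d ≠ x ∧ d ≠ y
    · obtain ⟨d, hd, hdx, hdy⟩ := hfix
      refine hlt.not_ge (hmax ⟨hT.isPGroup, ⟨x, y, d, hxy, hdx, hdy,
        hT.1.trans (inf_le_left.trans inf_le_left), hT.1.trans (inf_le_left.trans inf_le_right),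
        hd⟩, z', hz'T, (orderOf_conj_eq _ _).trans hz, ?_⟩ hUT)
      exact le_antisymm ((cnt_mono hTR z').trans hcR) (hcU.ge.trans (cnt_mono hUT z'))
    · push Not at hfix
      have hmem : ∀ f ∈ (Fx R : Set Ω), (g : G) • f ∈ Fx T := by
        intro f hf k hk
        obtain ⟨r, hr, rfl⟩ := hTR hk
        show ((g : G) * r * (g : G)⁻¹) • (g : G) • f = (g : G) • f
        rw [mul_smul, mul_smul, inv_smul_smul, (hf hr : r • f = f)]
      have h1 : (g : G) • e = x ∨ (g : G) • e = y :=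
        or_iff_not_imp_left.2 (hfix _ (hmem e he))
      have h2 : (g : G) • z • e = x ∨ (g : G) • z • e = y :=
        or_iff_not_imp_left.2 (hfix _ (hmem _ (smul_mem_Fx hzR he)))
      have hz'e : z' • (g : G) • e = (g : G) • z • e := by
        rw [mul_smul, mul_smul, inv_smul_smul]
      have hz'2 : orderOf z' = 2 := (orderOf_conj_eq _ _).trans hz
      rcases h1 with h1 | h1 <;> rcases h2 with h2 | h2
      · exact hze (MulAction.injective (g : G) (h2.trans h1.symm))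
      · exact hno ⟨z', hz'N, hz'2, by rw [← h1, hz'e, h2]⟩
      · exact hno ⟨z', hz'N, swapSet_symm ⟨hz'2, by rw [← h1, hz'e, h2]⟩⟩
      · exact hze (MulAction.injective (g : G) (h2.trans h1.symm))
  obtain ⟨s₁, h1, hs1⟩ := hswap ha hb hab
  obtain ⟨s₂, h2, hs2⟩ := hswap hb hc hcb.symm
  obtain ⟨s₃, h3, hs3⟩ := hswap ha hc hca.symm
  exact not_all_swapped hG hF hUodd hz hzN hzc ha hb hab h1 h2 h3 hs1 hs2 hs3

omit hpm [Fact p.Prime] in
/-- Property (F) with at least two involutions fixing a point gives double transitivity. -/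
theorem two_transitive (hm : 1 < Nat.card (invAt G a₀)) {a x y : Ω} (hx : x ≠ a) (hy : y ≠ a) :
    ∃ h : G, h • a = a ∧ h • x = y := by
  obtain ⟨p, hp, hpm⟩ := Nat.exists_prime_and_dvd hm.ne'
  haveI : Fact p.Prime := ⟨hp⟩
  have key : ∀ {x : Ω}, x ≠ a → ∃ T : Subgroup G, SylowIn p T (stabilizer G a) ∧
      ∀ e, e ∈ (Fx T : Set Ω) ↔ e = a ∨ e = x := by
    intro x hx
    obtain ⟨z, hz⟩ := hG.swapSet_nonempty hx.symm
    obtain ⟨T, hT, -⟩ := exists_sylowIn (p := p) hG hx.symm hz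
    have hcard := card_sylowIn hG hF hpm hx.symm hT
    have ha : a ∈ Fx T := hT.1.trans inf_le_left
    have hx' : x ∈ Fx T := hT.1.trans inf_le_right
    refine ⟨T, sylowIn_of_card ha hcard, fun e => ⟨fun he => ?_, ?_⟩⟩
    · obtain ⟨r₁, r₂, -, -, -, h⟩ := exists_fix_two hG hF hpm hT.isPGroup
      rcases h hcard _ ha with ea | ea <;> rcases h hcard _ hx' with ex | ex <;>
        rcases h hcard _ he with ee | ee <;>
        first
        | exact absurd (ex.trans ea.symm) hx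
        | exact Or.inl (ee.trans ea.symm)
        | exact Or.inr (ee.trans ex.symm)
    · rintro (rfl | rfl)
      · exact ha
      · exact hx'
  obtain ⟨T, hT, hTfix⟩ := key hx
  obtain ⟨T', hT', hTfix'⟩ := key hy
  obtain ⟨h, hh, hmap⟩ := hT.conj_eq hT'
  refine ⟨h, hh, ?_⟩
  have hmem : h • x ∈ Fx T' := by
    intro k hk
    rw [← hmap] at hk
    obtain ⟨r, hr, rfl⟩ := hk
    show (h * r * h⁻¹) • h • x = h • x
    rw [mul_smul, mul_smul, inv_smul_smul, (((hTfix x).2 (Or.inr rfl)) hr : r • x = x)]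
  exact ((hTfix' _).1 hmem).resolve_left fun e => hx (MulAction.injective h (e.trans hh.symm))

end Cfsg.Agent.Lib.BenderOne8
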