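import Mathlib
import Cfsg.Agent.Lib.BenderOne8.Transitive

/-!
# Bender's theorem, part one: subgroups fixing three points are centralised by involutions

Let `X` be a `p`-subgroup fixing three points.  Every point fixed by `X` is the fixed point of an
involution centralising `X`; in particular an element of a pair stabiliser inverted by a swapper
of the pair fixes only these two points.
-/

set_option autoImplicit false
set_option linter.style.haveILetI false

namespace Cfsg.Agent.Lib.BenderOne8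

open MulAction Cfsg.Agent.Lib.Involutions.Basic
open Cfsg.Agent.Lib.BenderOne20

variable {G Ω : Type*} [Group G] [MulAction G Ω]

/-- Three distinct fixed points. -/
def Three (X : Subgroup G) (Ω : Type*) [MulAction G Ω] : Prop :=
  ∃ a b c : Ω, a ≠ b ∧ c ≠ a ∧ c ≠ b ∧ a ∈ Fx X ∧ b ∈ Fx X ∧ c ∈ Fx X

/-- The involutions fixing `x` and centralising `X`. -/
def invCen (X : Subgroup G) {Ω : Type*} [MulAction G Ω] (x : Ω) : Set G :=
  {s | s ∈ invAt G x ∧ X ≤ Subgroup.centralizer {s}}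

theorem mem_normalizer_of_cen {X : Subgroup G} {s : G} (h : X ≤ Subgroup.centralizer {s}) :
    s ∈ Subgroup.normalizer (X : Set G) := by
  refine Subgroup.mem_normalizer_iff.2 fun k => ⟨fun hk => ?_, fun hk => ?_⟩
  · rwa [mul_inv_eq_iff_eq_mul.2 (Subgroup.mem_centralizer_singleton_iff.1 (h hk)).symm]
  · have h1 := Subgroup.mem_centralizer_singleton_iff.1 (h hk)
    have h2 : s * k * s⁻¹ = k := by
      calc s * k * s⁻¹ = s⁻¹ * ((s * k * s⁻¹) * s) := by rw [h1]; group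
        _ = s⁻¹ * s * k := by group
        _ = k := by group
    rwa [h2] at hk

theorem cen_conj {X : Subgroup G} {w g : G} (hg : g ∈ Subgroup.normalizer (X : Set G))
    (h : X ≤ Subgroup.centralizer {w}) : X ≤ Subgroup.centralizer {g * w * g⁻¹} := by
  intro k hk
  have h1 := Subgroup.mem_centralizer_singleton_iff.1
    (h ((Subgroup.mem_normalizer_iff''.1 hg k).1 hk))
  rw [Subgroup.mem_centralizer_singleton_iff]
  calc k * (g * w * g⁻¹) = g * (g⁻¹ * k * g * w) * g⁻¹ := by group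
    _ = g * (w * (g⁻¹ * k * g)) * g⁻¹ := by rw [h1]
    _ = g * w * g⁻¹ * k := by group

variable [Finite G] {p : ℕ} [Fact p.Prime]

theorem card_invCen_modEq {X : Subgroup G} (hX : IsPGroup p X) {x : Ω} (hx : x ∈ Fx X) :
    Nat.card (invAt G x) ≡ Nat.card (invCen X x) [MOD p] := by
  letI : MulAction X ↥(invAt G x) :=
    { smul := fun d t => ⟨(d : G) * t.1 * (d : G)⁻¹, by
        have h := OneFix.conj_mem_invAt (g := (d : G)) t.2
        rwa [(hx d.2 : (d : G) • x = x)] at h⟩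
      one_smul := fun t => Subtype.ext (by show (1 : G) * t.1 * 1⁻¹ = t.1; simp)
      mul_smul := fun a b t => Subtype.ext (by
        show ((a : G) * b) * t.1 * ((a : G) * b)⁻¹ = (a : G) * ((b : G) * t.1 * (b : G)⁻¹) * (a : G)⁻¹
        group) }
  refine (hX.card_modEq_card_fixedPoints ↥(invAt G x)).trans ?_
  show _ % p = _ % p
  congr 1
  refine Nat.card_congr
    { toFun := fun t => ⟨t.1.1, t.1.2, fun k hk => Subgroup.mem_centralizer_singleton_iff.2
        (mul_inv_eq_iff_eq_mul.1 (congrArg Subtype.val (t.2 ⟨k, hk⟩) :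
          k * t.1.1 * k⁻¹ = t.1.1))⟩
      invFun := fun t => ⟨⟨t.1, t.2.1⟩, fun d => Subtype.ext (mul_inv_eq_iff_eq_mul.2
        (Subgroup.mem_centralizer_singleton_iff.1 (t.2.2 d.2)) : (d : G) * t.1 * (d : G)⁻¹ = t.1)⟩
      left_inv := fun t => rfl
      right_inv := fun t => rfl }

variable (hG : OneFix G Ω) (hF : PropF G Ω)
include hG hF

omit hF [Finite G] [Fact p.Prime] in
/-- An involution centralising `X` fixes one of the fixed points of `X`. -/
theorem mem_Fx_of_cen {X : Subgroup G} {w : G} {c : Ω} (hw : w ∈ invAt G c)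
    (hX : X ≤ Subgroup.centralizer {w}) : c ∈ Fx X :=
  fun _ hk => hG.smul_eq_of_commute hw (Subgroup.mem_centralizer_singleton_iff.1 (hX hk)).symm

/-- Every fixed point of a `p`-subgroup with three fixed points carries an involution centralising
it. -/
theorem exists_cen {X : Subgroup G} (hX : IsPGroup p X) (h3 : Three X Ω) {x : Ω}
    (hx : x ∈ Fx X) : (invCen X x).Nonempty := by
  by_cases hpm : p ∣ Nat.card (invAt G x)
  swap
  · refine Set.nonempty_iff_ne_empty.2 fun h => hpm ?_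
    have h1 := card_invCen_modEq hX hx
    rw [h, Nat.card_coe_set_eq (∅ : Set G), Set.ncard_empty] at h1
    exact Nat.modEq_zero_iff_dvd.1 h1
  by_contra hbad
  obtain ⟨U, -, ⟨hU, hU3, x₀, hx₀, hx₀bad⟩, hmax⟩ := Finite.exists_le_maximal
    (p := fun U : Subgroup G => IsPGroup p U ∧ Three U Ω ∧
      ∃ x₀ ∈ (Fx U : Set Ω), ¬ (invCen U x₀).Nonempty) ⟨hX, h3, x, hx, hbad⟩
  have hp : p ≠ 2 := ne_two hG hpm
  have hUodd := odd_of_isPGroup hp hU
  set N := Subgroup.normalizer (U : Set G) with hN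
  have hUN : U ≤ N := Subgroup.le_normalizer
  have hpm' : p ∣ Nat.card (invAt G x₀) := by rwa [hG.card_invAt x₀ x]
  -- larger subgroups are harmless
  have hbig : ∀ {T : Subgroup G}, IsPGroup p T → U < T → Three T Ω → ∀ {y : Ω}, y ∈ Fx T →
      (invCen T y).Nonempty := by
    intro T hT hlt hT3 y hy
    by_contra hno
    exact hlt.not_ge (hmax ⟨hT, hT3, y, hy, hno⟩ hlt.le)
  have hcenT : ∀ {T : Subgroup G}, IsPGroup p T → U < T → Three T Ω → ∀ {y : Ω}, y ∈ Fx T →
      (invCen U y).Nonempty := fun hT hlt hT3 _ hy =>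
    (hbig hT hlt hT3 hy).mono fun _ hs => ⟨hs.1, hlt.le.trans hs.2⟩
  -- `U` is not a Sylow subgroup of the stabiliser of two of its fixed points
  have hgrow : ∀ {y z : Ω}, y ∈ Fx U → z ∈ Fx U → y ≠ z →
      ∀ {T : Subgroup G}, SylowIn p T (pairStab G y z ⊓ N) → U ≤ T → U < T := by
    intro y z hy hz hyz T hT hUT
    refine hUT.lt_of_ne fun heq => ?_
    subst heq
    have hS : SylowIn p U (pairStab G y z) :=
      SylowIn.of_normalizer (le_pairStab hy hz) hT le_rfl
    have hcard := card_sylowIn hG hF hpm hyz hS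
    obtain ⟨a, b, c, hab, hca, hcb, ha, hb, hc⟩ := hU3
    obtain ⟨r₁, r₂, -, -, -, h⟩ := exists_fix_two hG hF hpm hU
    rcases h hcard a ha with h1 | h1 <;> rcases h hcard b hb with h2 | h2 <;>
      rcases h hcard c hc with h3 | h3 <;> grind
  have hcases : ∀ {T : Subgroup G} {y z : Ω}, y ∈ Fx T → z ∈ Fx T → y ≠ z →
      Three T Ω ∨ ∀ e ∈ (Fx T : Set Ω), e = y ∨ e = z := by
    intro T y z hy hz hyz
    refine or_iff_not_imp_right.2 fun h => ?_
    push Not at h
    obtain ⟨e, he, h1, h2⟩ := h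
    exact ⟨y, z, e, hyz, h1, h2, hy, hz, he⟩
  -- the involutions normalising `U` centralise it
  have hinv : ∀ {w : G}, orderOf w = 2 → w ∈ N → U ≤ Subgroup.centralizer {w} := by
    intro z hz hzN
    by_contra hzc
    obtain ⟨a, b, c, hab, hca, hcb, ha, hb, hc⟩ := hU3
    have hswap : ∀ {y y' : Ω}, y ∈ Fx U → y' ∈ Fx U → y ≠ y' → ∃ w ∈ N, w ∈ swapSet G y y' := by
      intro y y' hy hy' hyy'
      obtain ⟨T, hT, hUT⟩ := SylowIn.exists_ge (D := pairStab G y y' ⊓ N) hU
        (le_inf (le_pairStab hy hy') hUN)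
      have hlt := hgrow hy hy' hyy' hT hUT
      have hyT : y ∈ Fx T := hT.1.trans (inf_le_left.trans inf_le_left)
      have hy'T : y' ∈ Fx T := hT.1.trans (inf_le_left.trans inf_le_right)
      rcases hcases hyT hy'T hyy' with h3 | h2
      · obtain ⟨s, hs⟩ := hcenT hT.isPGroup hlt h3 hyT
        exact absurd hs.1.2 (no_fix hG hF hz hzN hzc ha hb hab hs.1.1
          (mem_normalizer_of_cen hs.2) hy)
      obtain ⟨S, hS⟩ := IsolatedInvolution.InvariantSylow.exists_invariant_sylow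
        (isolated hG hF hUodd hz hzN hzc ha hb hab hz hzN) (p := p) hp
      obtain ⟨S', hS'⟩ := (hT.isPGroup.of_equiv
        (Subgroup.subgroupOfEquivOfLe (hT.1.trans inf_le_right)).symm).exists_le_sylow
      obtain ⟨g, hg⟩ := MulAction.exists_smul_eq N S S'
      set R := (S : Subgroup N).map N.subtype
      set R' := R.map (MulAut.conj (g : G)).toMonoidHom
      have hTR : T ≤ R' := by
        intro k hk
        have h1 : (⟨k, (hT.1.trans inf_le_right) hk⟩ : N) ∈ (S' : Subgroup N) := hS' hk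
        rw [← hg, Sylow.coe_subgroup_smul, Subgroup.mem_pointwise_smul_iff_inv_smul_mem] at h1
        refine ⟨_, ⟨_, h1, rfl⟩, ?_⟩
        simp [mul_assoc]
      set z' := (g : G) * z * (g : G)⁻¹
      have hz'N : z' ∈ N := mul_mem (mul_mem g.2 hzN) (inv_mem g.2)
      have hz'2 : orderOf z' = 2 := (orderOf_conj_eq _ _).trans hz
      have hzR : z ∈ Subgroup.normalizer (R : Set G) :=
        Subgroup.le_normalizer_map _ ⟨_, hS, rfl⟩
      have hz'R : z' ∈ Subgroup.normalizer (R' : Set G) :=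
        Subgroup.le_normalizer_map _ ⟨z, hzR, rfl⟩
      obtain ⟨r₁, r₂, hr, h₁, h₂, -⟩ :=
        exists_fix_two hG hF hpm ((S.2.map N.subtype).map (MulAut.conj (g : G)).toMonoidHom :
          IsPGroup p R')
      have hsub : ∀ e ∈ (Fx R' : Set Ω), e = y ∨ e = y' := fun e he => h2 e (Fx_anti hTR he)
      have hy_mem : y ∈ Fx R' ∧ y' ∈ Fx R' := by
        rcases hsub r₁ h₁ with e1 | e1 <;> rcases hsub r₂ h₂ with e2 | e2
        · exact absurd (e1.trans e2.symm) hr
        · exact ⟨e1 ▸ h₁, e2 ▸ h₂⟩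
        · exact ⟨e2 ▸ h₂, e1 ▸ h₁⟩
        · exact absurd (e1.trans e2.symm) hr
      have hne : z' • y ≠ y := no_fix hG hF hz hzN hzc ha hb hab hz'2 hz'N hy
      exact ⟨z', hz'N, hz'2, (hsub _ (smul_mem_Fx hz'R hy_mem.1)).resolve_left hne⟩
    obtain ⟨s₁, h1, hs1⟩ := hswap ha hb hab
    obtain ⟨s₂, h2, hs2⟩ := hswap hb hc hcb.symm
    obtain ⟨s₃, h3, hs3⟩ := hswap ha hc hca.symm
    exact not_all_swapped hG hF hUodd hz hzN hzc ha hb hab h1 h2 h3 hs1 hs2 hs3
  -- the normaliser of `U` in a bad point stabiliser is transitive on the other fixed points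
  have htrans : ∀ {x : Ω}, x ∈ Fx U → ¬ (invCen U x).Nonempty → ∀ {y y' : Ω},
      y ∈ Fx U → y' ∈ Fx U → y ≠ x → y' ≠ x → ∃ h ∈ N, h • x = x ∧ h • y = y' := by
    intro x hx hxbad y y' hy hy' hyx hy'x
    have key : ∀ {y : Ω}, y ∈ Fx U → y ≠ x → ∃ T, SylowIn p T (stabilizer G x ⊓ N) ∧
        y ∈ Fx T ∧ ∀ e ∈ (Fx T : Set Ω), e = x ∨ e = y := by
      intro y hy hyx
      obtain ⟨T, hT, hUT⟩ := SylowIn.exists_ge (D := pairStab G x y ⊓ N) hU
        (le_inf (le_pairStab hx hy) hUN)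
      have hlt := hgrow hx hy hyx.symm hT hUT
      have hxT : x ∈ Fx T := hT.1.trans (inf_le_left.trans inf_le_left)
      have hyT : y ∈ Fx T := hT.1.trans (inf_le_left.trans inf_le_right)
      rcases hcases hxT hyT hyx.symm with h3 | h2
      · exact absurd (hcenT hT.isPGroup hlt h3 hxT) hxbad
      refine ⟨T, ?_, hyT, h2⟩
      obtain ⟨T₂, hT₂, hTT₂⟩ := SylowIn.exists_ge (D := stabilizer G x ⊓ N) hT.isPGroup
        (le_inf (hxT) (hT.1.trans inf_le_right))
      obtain ⟨r₁, r₂, hr, h₁, h₂, -⟩ := exists_fix_two hG hF hpm hT₂.isPGroup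
      have hy2 : y ∈ Fx T₂ := by
        rcases h2 r₁ (Fx_anti hTT₂ h₁) with e1 | e1 <;>
          rcases h2 r₂ (Fx_anti hTT₂ h₂) with e2 | e2
        · exact absurd (e1.trans e2.symm) hr
        · exact e2 ▸ h₂
        · exact e1 ▸ h₁
        · exact absurd (e1.trans e2.symm) hr
      rw [← hT.eq_of_le hTT₂ (le_inf (le_inf (hT₂.1.trans inf_le_left) hy2)
        (hT₂.1.trans inf_le_right)) hT₂.isPGroup]
      exact hT₂
    obtain ⟨T, hT, hyT, -⟩ := key hy hyx
    obtain ⟨T', hT', -, h2'⟩ := key hy' hy'x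
    obtain ⟨h, hh, hmap⟩ := hT.conj_eq hT'
    have hmem : h • y ∈ Fx T' := by
      intro k hk
      rw [← hmap] at hk
      obtain ⟨r, hr, rfl⟩ := hk
      show (h * r * h⁻¹) • h • y = h • y
      rw [mul_smul, mul_smul, inv_smul_smul, (hyT hr : r • y = y)]
    exact ⟨h, hh.2, hh.1, (h2' _ hmem).resolve_left fun e =>
      hyx (MulAction.injective h (e.trans (hh.1 : h • x = x).symm))⟩
  -- some element of `N` moves the bad point
  obtain ⟨g, hgN, hg⟩ : ∃ g ∈ N, g • x₀ ≠ x₀ := by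
    by_contra! hfix
    obtain ⟨a, b, c, hab, hca, hcb, ha, hb, hc⟩ := hU3
    obtain ⟨y, y', hy, hy', hyy', hy0, hy'0⟩ : ∃ y y' : Ω, y ∈ Fx U ∧ y' ∈ Fx U ∧ y ≠ y' ∧
        y ≠ x₀ ∧ y' ≠ x₀ := by
      by_cases h1 : a = x₀
      · exact ⟨b, c, hb, hc, hcb.symm, fun h => hab (h1.trans h.symm), fun h => hca (h.trans h1.symm)⟩
      by_cases h2 : b = x₀
      · exact ⟨a, c, ha, hc, hca.symm, h1, fun h => hcb (h.trans h2.symm)⟩
      exact ⟨a, b, ha, hb, hab, h1, h2⟩
    obtain ⟨T, hT, hUT⟩ := SylowIn.exists_ge (D := pairStab G y y' ⊓ N) hU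
      (le_inf (le_pairStab hy hy') hUN)
    have hyT : y ∈ Fx T := hT.1.trans (inf_le_left.trans inf_le_left)
    have h3 : Three T Ω := ⟨y, y', x₀, hyy', hy0.symm, hy'0.symm, hyT,
      hT.1.trans (inf_le_left.trans inf_le_right), fun k hk => hfix k (hT.1 hk).2⟩
    obtain ⟨s, hs⟩ := hcenT hT.isPGroup (hgrow hy hy' hyy' hT hUT) h3 hyT
    exact hy0 (hG.eq_of_fix hs.1.1 hs.1.2 (hfix s (mem_normalizer_of_cen hs.2)))
  set y := g • x₀ with hy_def
  have hy : y ∈ Fx U := smul_mem_Fx hgN hx₀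
  have hybad : ¬ (invCen U y).Nonempty := by
    rintro ⟨s, hs⟩
    refine hx₀bad ⟨g⁻¹ * s * g, ?_, ?_⟩
    · have h := OneFix.conj_mem_invAt (g := g⁻¹) hs.1
      rwa [inv_inv, inv_smul_smul] at h
    · have h := cen_conj (inv_mem hgN) hs.2
      rwa [inv_inv] at h
  have hgy : g • y ≠ y := fun h => hg (MulAction.injective g h)
  obtain ⟨h, hhN, hhy, hh⟩ := htrans hy hybad (smul_mem_Fx hgN hy) hx₀ hgy hg.symm
  obtain ⟨w, hwN, hw⟩ := swap_in_normalizer hG hg.symm (mul_mem hhN hgN) (x := x₀) (y := y)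
    (by rw [mul_smul, ← hy_def, hhy]) (by rw [mul_smul, hh])
  have hwc := hinv hw.1 hwN
  obtain ⟨c, hc⟩ := hG.exists_fix hw.1
  have hcU : c ∈ Fx U := mem_Fx_of_cen hG ⟨hw.1, hc⟩ hwc
  have hcx : c ≠ x₀ := fun e => hg (hw.2.symm.trans (e ▸ hc))
  obtain ⟨d, hdN, hd, hdy⟩ := htrans hx₀ hx₀bad hy hcU hg hcx
  have hmove : (d * g) • x₀ = c := by rw [mul_smul, ← hy_def, hdy]
  refine hx₀bad ⟨(d * g)⁻¹ * w * (d * g), ?_, ?_⟩
  · have h := OneFix.conj_mem_invAt (g := (d * g)⁻¹) (⟨hw.1, hc⟩ : w ∈ invAt G c)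
    rwa [inv_inv, inv_smul_eq_iff.2 hmove.symm] at h
  · have h := cen_conj (inv_mem (mul_mem hdN hgN)) hwc
    rwa [inv_inv] at h

/-- A non-trivial element of a pair stabiliser inverted by a swapper fixes only the pair. -/
theorem eq_or_eq_of_inverted {x y : Ω} (hxy : x ≠ y) {u k : G} (hu : u ∈ swapSet G x y)
    (hk : k ∈ pairStab G x y) (hk1 : k ≠ 1) (hinv : u * k * u⁻¹ = k⁻¹) {e : Ω} (he : k • e = e) :
    e = x ∨ e = y := by
  by_contra! hne
  obtain ⟨q, hq, hqk⟩ := Nat.exists_prime_and_dvd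
    (fun h => hk1 (orderOf_eq_one_iff.1 h) : orderOf k ≠ 1)
  haveI : Fact q.Prime := ⟨hq⟩
  set k' := k ^ (orderOf k / q)
  have ho : orderOf k' = q := orderOf_pow_orderOf_div (orderOf_pos k).ne' hqk
  have hinv' : u * k' * u⁻¹ = k'⁻¹ := by rw [← conj_pow, hinv, inv_pow]
  set U := Subgroup.zpowers k'
  have hU : IsPGroup q U := IsPGroup.of_card (n := 1) (by rw [Nat.card_zpowers, ho, pow_one])
  have hx : x ∈ Fx U := Subgroup.zpowers_le.2 (pow_mem hk.1 _)
  have hy : y ∈ Fx U := Subgroup.zpowers_le.2 (pow_mem hk.2 _)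
  have he' : e ∈ Fx U := Subgroup.zpowers_le.2 (pow_mem (show k ∈ stabilizer G e from he) _)
  obtain ⟨s, hs⟩ := exists_cen hG hF hU ⟨x, y, e, hxy, hne.1, hne.2, hx, hy, he'⟩ hx
  have hmemU : k' ∈ U := Subgroup.mem_zpowers k'
  have huN : u ∈ Subgroup.normalizer (U : Set G) := by
    rw [Subgroup.mem_normalizer_iff_map_conj_eq, MonoidHom.map_zpowers]
    show Subgroup.zpowers (u * k' * u⁻¹) = _
    rw [hinv', Subgroup.zpowers_inv]
  refine no_fix hG hF hu.1 huN (fun hc => ?_) hx hy hxy hs.1.1 (mem_normalizer_of_cen hs.2) hx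
    hs.1.2
  have h1 := Subgroup.mem_centralizer_singleton_iff.1 (hc hmemU)
  have h2 : k' * k' = 1 := by
    rw [mul_eq_one_iff_eq_inv, ← hinv', ← h1, mul_inv_cancel_right]
  have hodd : Odd q := by
    rw [← ho]
    exact (hG.odd_pairStab hxy).of_dvd_nat
      (Subgroup.orderOf_dvd_natCard _ (pow_mem hk _))
  have h3 : q ∣ 2 := ho ▸ orderOf_dvd_of_pow_eq_one (by rw [pow_two, h2])
  rcases (Nat.dvd_prime Nat.prime_two).1 h3 with h4 | h4
  · exact hq.ne_one h4
  · rw [h4] at hodd; exact absurd hodd (by decide)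

end Cfsg.Agent.Lib.BenderOne8
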