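import Mathlib
import Cfsg.Agent.Lib.BenderOne8.Fixed

/-!
# Bender's theorem, part one: the centraliser of a `p`-subgroup on its fixed points

The centraliser of a `p`-subgroup with three fixed points acts on them with one fixed point per
involution and with property (F).  With two involutions at a point it has a four group there and
is doubly transitive.
-/

set_option autoImplicit false
set_option linter.style.haveILetI false

namespace Cfsg.Agent.Lib.BenderOne8

open MulAction Cfsg.Agent.Lib.Involutions.Basic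
open Cfsg.Agent.Lib.BenderOne20

variable {G : Type*} [Group G]

/-- The fixed points of `X` as a set with an action of the centraliser. -/
def fxAct (X : Subgroup G) (Ω : Type*) [MulAction G Ω] :
    SubMulAction (Subgroup.centralizer (X : Set G)) Ω where
  carrier := Fx X
  smul_mem' g _ hx := smul_mem_Fx (Subgroup.centralizer_le_normalizer _ g.2) hx

variable {Ω : Type*} [MulAction G Ω]

theorem mem_cen {X : Subgroup G} {w : G} (h : X ≤ Subgroup.centralizer {w}) :
    w ∈ Subgroup.centralizer (X : Set G) :=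
  Subgroup.mem_centralizer_iff.2 fun k hk => Subgroup.mem_centralizer_singleton_iff.1 (h hk)

theorem le_cen {X : Subgroup G} {w : G} (h : w ∈ Subgroup.centralizer (X : Set G)) :
    X ≤ Subgroup.centralizer {w} := fun k hk =>
  Subgroup.mem_centralizer_singleton_iff.2 (Subgroup.mem_centralizer_iff.1 h k hk)

theorem coe_invAt {X : Subgroup G} {x : ↥(fxAct X Ω)} {w : Subgroup.centralizer (X : Set G)} :
    w ∈ invAt _ x ↔ (w : G) ∈ invCen X (x : Ω) := by
  refine ⟨fun h => ⟨⟨(Subgroup.orderOf_coe w).trans h.1, congrArg Subtype.val h.2⟩, le_cen w.2⟩,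
    fun h => ⟨(Subgroup.orderOf_coe w).symm.trans h.1.1, Subtype.ext h.1.2⟩⟩

theorem card_invAt_local {X : Subgroup G} (x : ↥(fxAct X Ω)) :
    Nat.card (invAt (Subgroup.centralizer (X : Set G)) x) = Nat.card (invCen X (x : Ω)) :=
  Nat.card_congr
    { toFun := fun w => ⟨w.1.1, coe_invAt.1 w.2⟩
      invFun := fun w => ⟨⟨w.1, mem_cen w.2.2⟩, coe_invAt.2 w.2⟩
      left_inv := fun w => rfl
      right_inv := fun w => rfl }

variable [Finite G] {p : ℕ} [Fact p.Prime] (hG : OneFix G Ω) (hF : PropF G Ω)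
include hG hF

theorem local_oneFix {X : Subgroup G} (hX : IsPGroup p X) (h3 : Three X Ω) :
    OneFix (Subgroup.centralizer (X : Set G)) ↥(fxAct X Ω) where
  one t ht := by
    have ht' : orderOf (t : G) = 2 := (Subgroup.orderOf_coe t).trans ht
    obtain ⟨c, hc⟩ := hG.exists_fix ht'
    refine ⟨⟨c, mem_Fx_of_cen hG ⟨ht', hc⟩ (le_cen t.2)⟩, Subtype.ext hc, fun y hy => ?_⟩
    exact Subtype.ext (hG.eq_of_fix ht' (congrArg Subtype.val hy) hc)
  trans := ⟨fun x y => by
    by_cases hxy : (x : Ω) = y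
    · exact ⟨1, Subtype.ext (by simpa using hxy)⟩
    obtain ⟨s, hs⟩ := exists_cen hG hF hX h3 x.2
    obtain ⟨t, ht⟩ := exists_cen hG hF hX h3 y.2
    obtain ⟨g, hg, hgs⟩ := exists_conj_of_odd (invol_mul_self hs.1.1) (invol_mul_self ht.1.1)
      (hG.odd_mul hs.1 ht.1 hxy)
    have hgC : g ∈ Subgroup.centralizer (X : Set G) := by
      refine (Subgroup.closure_le _).2 ?_ hg
      rintro v (rfl | rfl)
      · exact mem_cen hs.2
      · exact mem_cen ht.2
    refine ⟨⟨g, hgC⟩, Subtype.ext ?_⟩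
    exact hG.eq_of_fix ht.1.1 (hgs ▸ (OneFix.conj_mem_invAt hs.1).2) ht.1.2⟩
  invol := by
    obtain ⟨a, -, -, -, -, -, ha, -, -⟩ := id h3
    obtain ⟨s, hs⟩ := exists_cen hG hF hX h3 ha
    exact ⟨⟨s, mem_cen hs.2⟩, (Subgroup.orderOf_coe _).symm.trans hs.1.1⟩
  nontrivial := by
    obtain ⟨a, b, -, hab, -, -, ha, hb, -⟩ := h3
    exact ⟨⟨a, ha⟩, ⟨b, hb⟩, fun h => hab (congrArg Subtype.val h)⟩

omit hG [Finite G] [Fact p.Prime] in
theorem local_propF {X : Subgroup G} :
    PropF (Subgroup.centralizer (X : Set G)) ↥(fxAct X Ω) := by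
  intro u x y c hxy hu hc k hk
  obtain ⟨⟨hkx, hky⟩, hkc⟩ := hk
  have h := hF u x y c (fun h => hxy (Subtype.ext h))
    ⟨(Subgroup.orderOf_coe u).trans hu.1, congrArg Subtype.val hu.2⟩ (congrArg Subtype.val hc)
    (show (k : G) ∈ pairStab G (x : Ω) y ⊓ stabilizer G (c : Ω) from
      ⟨⟨congrArg Subtype.val hkx, congrArg Subtype.val hky⟩, congrArg Subtype.val hkc⟩)
  rw [Subgroup.mem_centralizer_singleton_iff] at h ⊢
  exact Subtype.ext h

/-- Two involutions centralising `X` at `a` make `C(X)` doubly transitive on its fixed points. -/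
theorem cen_two_transitive {X : Subgroup G} (hX : IsPGroup p X) (h3 : Three X Ω) {a x y : Ω}
    (ha : a ∈ Fx X) (hx : x ∈ Fx X) (hy : y ∈ Fx X) (hm : 1 < Nat.card (invCen X a))
    (hxa : x ≠ a) (hya : y ≠ a) :
    ∃ h ∈ Subgroup.centralizer (X : Set G), h • a = a ∧ h • x = y := by
  obtain ⟨h, h1, h2⟩ := two_transitive (local_oneFix hG hF hX h3) (local_propF hF)
    (a₀ := (⟨a, ha⟩ : ↥(fxAct X Ω))) (by rwa [card_invAt_local]) (a := ⟨a, ha⟩) (x := ⟨x, hx⟩)
    (y := ⟨y, hy⟩) (fun h => hxa (congrArg Subtype.val h)) (fun h => hya (congrArg Subtype.val h))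
  exact ⟨h, h.2, congrArg Subtype.val h1, congrArg Subtype.val h2⟩

/-- Two involutions centralising `X` at `a` give two commuting ones. -/
theorem exists_four {X : Subgroup G} (hX : IsPGroup p X) (h3 : Three X Ω) {a : Ω}
    (ha : a ∈ Fx X) (hm : 1 < Nat.card (invCen X a)) :
    ∃ s ∈ invCen X a, ∃ t ∈ invCen X a, s ≠ t ∧ s * t = t * s := by
  by_contra hno
  set L := Subgroup.centralizer (X : Set G)
  have hL := local_oneFix hG hF hX h3
  haveI := hL.trans
  set a' : ↥(fxAct X Ω) := ⟨a, ha⟩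
  have huniq : ∀ v w : L, orderOf v = 2 → orderOf w = 2 → v * w = w * v → v = w := by
    intro v w hv hw hvw
    by_contra hne
    obtain ⟨d, hd⟩ := hL.exists_fix hv
    have hwd : w • d = d := hL.smul_eq_of_commute ⟨hv, hd⟩ hvw
    obtain ⟨g, hg⟩ := exists_smul_eq L d a'
    refine hno ⟨_, coe_invAt.1 (hg ▸ OneFix.conj_mem_invAt (g := g) ⟨hv, hd⟩),
      _, coe_invAt.1 (hg ▸ OneFix.conj_mem_invAt (g := g) ⟨hw, hwd⟩), fun e => hne ?_, ?_⟩
    · exact mul_left_cancel (mul_right_cancel (Subtype.ext e : g * v * g⁻¹ = g * w * g⁻¹))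
    · refine congrArg Subtype.val (show g * v * g⁻¹ * (g * w * g⁻¹) =
        g * w * g⁻¹ * (g * v * g⁻¹) from ?_)
      calc g * v * g⁻¹ * (g * w * g⁻¹) = g * (v * w) * g⁻¹ := by group
        _ = g * (w * v) * g⁻¹ := by rw [hvw]
        _ = g * w * g⁻¹ * (g * v * g⁻¹) := by group
  haveI := hL.nontrivial
  obtain ⟨y, hy⟩ := exists_ne a'
  obtain ⟨s, hs⟩ := hL.exists_invAt a'
  have hone : 1 < Nat.card (invAt L y) := by rwa [hL.card_invAt y a', card_invAt_local]
  haveI : Nontrivial ↥(invAt L y) := Finite.one_lt_card_iff_nontrivial.1 hone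
  obtain ⟨t, t', htt⟩ := exists_pair_ne ↥(invAt L y)
  obtain ⟨w, hw, hwt⟩ := hL.exists_swap hs t.2 hy.symm
  obtain ⟨w', hw', hwt'⟩ := hL.exists_swap hs t'.2 hy.symm
  have hww : w ≠ w' := fun e => htt (Subtype.ext (by rw [← hwt, ← hwt', e]))
  set k := w * w'
  have hk1 : k ≠ 1 := fun e => hww (by rw [eq_inv_of_mul_eq_one_left e, invol_inv hw'.1])
  have hkmem : k ∈ pairStab L a' y := by
    refine ⟨?_, ?_⟩
    · show k • a' = a'
      rw [mul_smul, hw'.2, smul_swap hw]
    · show k • y = y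
      rw [mul_smul, smul_swap hw', hw.2]
  have hkinv : w * k * w⁻¹ = k⁻¹ := by
    show w * (w * w') * w⁻¹ = (w * w')⁻¹
    rw [mul_inv_rev, invol_inv hw.1, invol_inv hw'.1, ← mul_assoc, invol_mul_self hw.1, one_mul]
  obtain ⟨q, hq, hqk⟩ := Nat.exists_prime_and_dvd
    (fun h => hk1 (orderOf_eq_one_iff.1 h) : orderOf k ≠ 1)
  haveI : Fact q.Prime := ⟨hq⟩
  set k' := k ^ (orderOf k / q)
  have ho : orderOf k' = q := orderOf_pow_orderOf_div (orderOf_pos k).ne' hqk
  have hk'mem : k' ∈ pairStab L a' y := pow_mem hkmem _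
  have hinv' : w * k' * w⁻¹ = k'⁻¹ := by rw [← conj_pow, hkinv, inv_pow]
  have hq2 : q ≠ 2 := fun e => by
    have h := (hL.odd_pairStab hy.symm).of_dvd_nat (Subgroup.orderOf_dvd_natCard _ hk'mem)
    rw [ho, e] at h
    exact absurd h (by decide)
  have hiso : Cfsg.IsIsolatedInvolution s :=
    ⟨hs.1, fun g h => huniq _ _ ((orderOf_conj_eq g s).trans hs.1) hs.1 h.symm⟩
  set M := stabilizer L a'
  obtain ⟨S, hS⟩ := IsolatedInvolution.InvariantSylow.exists_invariant_sylow
    (IsolatedInvolution.InvariantSylow.isolated_subgroup hiso (R := M) hs.2) (p := q) hq2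
  have hzp : IsPGroup q (Subgroup.zpowers (⟨k', hk'mem.1⟩ : M)) :=
    IsPGroup.of_card (n := 1) (by rw [Nat.card_zpowers, Subgroup.orderOf_mk, ho, pow_one])
  obtain ⟨S', hS'⟩ := hzp.exists_le_sylow
  obtain ⟨g, hg⟩ := MulAction.exists_smul_eq M S' S
  set k'' : L := (g : L) * k' * (g : L)⁻¹
  have hk''S : (g * ⟨k', hk'mem.1⟩ * g⁻¹ : M) ∈ (S : Subgroup M) := by
    rw [← hg, Sylow.coe_subgroup_smul]
    simpa using Subgroup.smul_mem_pointwise_smul (a := MulAut.conj g) _ (S' : Subgroup M)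
      (hS' (Subgroup.mem_zpowers _))
  set y' : ↥(fxAct X Ω) := (g : L) • y
  have hga : (g : L) • a' = a' := g.2
  have hy' : y' ≠ a' := fun e => hy (MulAction.injective (g : L) (e.trans hga.symm))
  have hFx : ∀ e : ↥(fxAct X Ω), k'' • e = e → e = a' ∨ e = y' := by
    refine fun e he => eq_or_eq_of_inverted hL (local_propF hF) hy'.symm
      (u := (g : L) * w * (g : L)⁻¹) (k := k'') ⟨(orderOf_conj_eq _ _).trans hw.1, ?_⟩ ⟨?_, ?_⟩ ?_
      ?_ he
    · rw [mul_smul, mul_smul, inv_smul_eq_iff.2 hga.symm, hw.2]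
    · show k'' • a' = a'
      rw [mul_smul, mul_smul, inv_smul_eq_iff.2 hga.symm, (hk'mem.1 : k' • a' = a'), hga]
    · show k'' • y' = y'
      rw [mul_smul, mul_smul, inv_smul_smul, (hk'mem.2 : k' • y = y)]
    · intro e
      have : k' = 1 := by simpa [k''] using e
      rw [this, orderOf_one] at ho
      exact hq.ne_one ho.symm
    · calc (g : L) * w * (g : L)⁻¹ * k'' * ((g : L) * w * (g : L)⁻¹)⁻¹
          = (g : L) * (w * k' * w⁻¹) * (g : L)⁻¹ := by simp only [k'']; group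
        _ = (g : L) * k'⁻¹ * (g : L)⁻¹ := by rw [hinv']
        _ = k''⁻¹ := by simp only [k'']; group
  set R := (S : Subgroup M).map M.subtype
  have hk''R : k'' ∈ R := ⟨_, hk''S, rfl⟩
  have hR : IsPGroup q R := S.2.map _
  have hRa : R ≤ stabilizer L a' := Subgroup.map_subtype_le _
  have hk''y : k'' ∈ stabilizer L y' := by
    show k'' • y' = y'
    rw [mul_smul, mul_smul, inv_smul_smul, (hk'mem.2 : k' • y = y)]
  set E := R ⊓ stabilizer L y'
  obtain ⟨T, hT, hET⟩ := SylowIn.exists_ge (hR.to_le inf_le_left) (le_refl E)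
  have hTE : T = E := le_antisymm hT.1 hET
  have hRE : SylowIn q T R := SylowIn.of_normalizer (hT.1.trans inf_le_left) hT (by
    rintro r ⟨hrR, hrN⟩
    refine ⟨hrR, ?_⟩
    have hy'T : y' ∈ Fx T := hT.1.trans inf_le_right
    have h1 := smul_mem_Fx hrN hy'T
    have h2 : k'' ∈ T := by rw [hTE]; exact ⟨hk''R, hk''y⟩
    exact (hFx _ (h1 h2)).resolve_left fun e =>
      hy' (MulAction.injective r (e.trans (hRa hrR : r • a' = a').symm)))
  have hRy : R ≤ stabilizer L y' := by
    rw [hRE.eq_of_le hRE.1 le_rfl hR]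
    exact hT.1.trans inf_le_right
  have hsR : s ∈ Subgroup.normalizer (R : Set L) :=
    Subgroup.le_normalizer_map _ ⟨_, hS, rfl⟩
  have h3 : s • y' ∈ Fx R := smul_mem_Fx hsR hRy
  rcases hFx _ (h3 hk''R) with e | e
  · exact hy' (MulAction.injective s (e.trans hs.2.symm))
  · exact hy' (hL.eq_of_fix hs.1 e hs.2)

end Cfsg.Agent.Lib.BenderOne8
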