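import Mathlib
import Cfsg.Agent.Lib.BenderOne.Interface
import Cfsg.Agent.Lib.BenderOne8.Local

/-!
# Bender's theorem, part one: the number of fixed points in the four group case

By induction the centraliser of a `p`-subgroup is split on the fixed points, so their number is
one more than a power of two.
-/

set_option autoImplicit false
set_option linter.style.haveILetI false

namespace Cfsg.Agent.Lib.BenderOne8

open MulAction Cfsg.Agent.Lib.Involutions.Basic
open Cfsg.Agent.Lib.BenderOne20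

universe u

section

variable {G Ω : Type u} [Group G] [MulAction G Ω] [Finite G]

/-- A point stabiliser in an action with one fixed point per involution is strongly embedded. -/
theorem stronglyEmbedded_of_oneFix (hG : OneFix G Ω) (a : Ω) :
    Cfsg.IsStronglyEmbedded (stabilizer G a) := by
  haveI := hG.nontrivial
  haveI := hG.trans
  refine ⟨fun h => ?_, ?_, fun g hg => ?_⟩
  · obtain ⟨y, hy⟩ := exists_ne a
    obtain ⟨g, hg⟩ := exists_smul_eq G a y
    exact hy (hg.symm.trans (h.ge (Subgroup.mem_top g) : g • a = a))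
  · obtain ⟨s, hs⟩ := hG.exists_invAt a
    rw [even_iff_two_dvd, ← hs.1]
    exact Subgroup.orderOf_dvd_natCard _ hs.2
  · refine (hG.odd_pairStab (x := a) (y := g • a) (Ne.symm hg)).of_dvd_nat
      (Subgroup.card_dvd_of_le fun x hx => ⟨hx.1, ?_⟩)
    obtain ⟨k, hk, rfl⟩ := hx.2
    show (g * k * g⁻¹) • g • a = g • a
    rw [mul_smul, mul_smul, inv_smul_smul, (hk : k • a = a)]

variable [FaithfulSMul G Ω]

/-- In a faithful action with one fixed point per involution and a four group at `a`, induction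
makes the number of other points a power of two. -/
theorem card_ne_eq_two_pow (hG : OneFix G Ω) {N : ℕ} (hlt : Nat.card G < N)
    (hbelow : BenderOne.Below.{u} N) {a : Ω}
    (hfour : ∃ s ∈ invAt G a, ∃ t ∈ invAt G a, s ≠ t ∧ s * t = t * s) :
    ∃ j : ℕ, Nat.card {x : Ω // x ≠ a} = 2 ^ j := by
  haveI : Fact (Nat.Prime 2) := ⟨Nat.prime_two⟩
  haveI := hG.nontrivial
  haveI := hG.trans
  set K := stabilizer G a
  obtain ⟨s, hs, t, ht, hne, hst⟩ := hfour
  have hcore : K.normalCore = ⊥ := by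
    refine eq_bot_iff.2 fun x hx => Subgroup.mem_bot.2 (FaithfulSMul.eq_of_smul_eq_smul (α := Ω) fun e => ?_)
    obtain ⟨g, rfl⟩ := exists_smul_eq G a e
    have h : (g⁻¹ * x * g⁻¹⁻¹) • a = a := hx g⁻¹
    rw [inv_inv, mul_smul, mul_smul, inv_smul_eq_iff] at h
    rw [h, one_smul]
  obtain ⟨Q, hQ, hR⟩ := hbelow G K hlt (stronglyEmbedded_of_oneFix hG a)
    ⟨s, hs.2, t, ht.2, hs.1, ht.1, hne, hst⟩ hcore
  obtain ⟨y, hy⟩ := exists_ne a
  obtain ⟨g, rfl⟩ := exists_smul_eq G a y
  have hg : g ∉ K := hy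
  obtain ⟨j, hj⟩ := hQ.exists_card_eq
  refine ⟨j, hj ▸ (Nat.card_eq_of_bijective
    (fun q : Q => (⟨(q : G) • g • a, fun h => hy (MulAction.injective (q : G)
      (h.trans (hR.le q.2 : (q : G) • a = a).symm))⟩ : {x : Ω // x ≠ a})) ⟨?_, ?_⟩).symm⟩
  · intro q r h
    have h1 : (q : G) • g • a = (r : G) • g • a := congrArg Subtype.val h
    have h2 := hR.free g hg _ (mul_mem (inv_mem r.2) q.2) (by
      show (g⁻¹ * ((r : G)⁻¹ * q * g)) • a = a
      rw [mul_smul, mul_smul, mul_smul, h1, inv_smul_smul, inv_smul_smul])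
    exact Subtype.ext (inv_mul_eq_one.1 h2).symm
  · rintro ⟨x, hx⟩
    obtain ⟨g', rfl⟩ := exists_smul_eq G a x
    obtain ⟨q, hq, hq'⟩ := hR.trans g g' hg hx
    refine ⟨⟨q, hq⟩, Subtype.ext ?_⟩
    have h : (g'⁻¹ * (q * g)) • a = a := hq'
    rwa [mul_smul, mul_smul, inv_smul_eq_iff] at h

end

variable {G Ω : Type u} [Group G] [MulAction G Ω] [Finite G] {p : ℕ} [Fact p.Prime]
  (hG : OneFix G Ω) (hF : PropF G Ω)
include hG hF

/-- If two involutions at `a` centralise `X`, the fixed points of `X` other than `a` number a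
power of two. -/
theorem card_Fx_eq_two_pow {X : Subgroup G} (hX : IsPGroup p X) (h3 : Three X Ω) {a : Ω}
    (ha : a ∈ Fx X) (hm : 1 < Nat.card (invCen X a)) (hbelow : BenderOne.Below.{u} (Nat.card G))
    (hne : Subgroup.centralizer (X : Set G) ≠ ⊤) :
    ∃ j : ℕ, Nat.card {e : Ω // e ∈ Fx X ∧ e ≠ a} = 2 ^ j := by
  set L := Subgroup.centralizer (X : Set G)
  have hL : OneFix L ↥(fxAct X Ω) := local_oneFix hG hF hX h3
  haveI := hL.trans
  haveI := hL.nontrivial
  haveI : Finite ↥(fxAct X Ω) := by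
    obtain ⟨y⟩ := (inferInstance : Nonempty ↥(fxAct X Ω))
    exact Finite.of_surjective (fun g : L => g • y) (fun z => exists_smul_eq L y z)
  set φ := MulAction.toPermHom L ↥(fxAct X Ω)
  set a' : ↥(fxAct X Ω) := ⟨a, ha⟩
  obtain ⟨y, hy⟩ := exists_ne a'
  have hker : ∀ {x : L}, φ x = 1 → Odd (orderOf x) := fun {x} hx =>
    (hL.odd_pairStab hy.symm).of_dvd_nat (Subgroup.orderOf_dvd_natCard _
      ⟨Equiv.congr_fun hx a', Equiv.congr_fun hx y⟩)
  have hnker : ∀ {x : L}, orderOf x = 2 → φ x ≠ 1 := fun {x} hx h => by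
    have := hker h
    rw [hx] at this
    exact absurd this (by decide)
  have hinv : ∀ {x : L}, orderOf x = 2 → orderOf (φ.rangeRestrict x) = 2 := fun {x} hx => by
    refine orderOf_eq_prime ?_ fun h => hnker hx (congrArg Subtype.val h)
    rw [← map_pow, ← hx, pow_orderOf_eq_one, map_one]
  have hlift : ∀ {v : φ.range}, orderOf v = 2 →
      ∃ x : L, orderOf x = 2 ∧ φ.rangeRestrict x = v := by
    intro v hv
    obtain ⟨x, rfl⟩ := φ.rangeRestrict_surjective v
    have h2 : φ (x ^ 2) = 1 := by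
      have h := pow_orderOf_eq_one (φ.rangeRestrict x)
      rw [hv] at h
      simpa using congrArg Subtype.val h
    have hodd := hker h2
    obtain ⟨k, hk⟩ := hodd
    have himg : φ.rangeRestrict (x ^ orderOf (x ^ 2)) = φ.rangeRestrict x := by
      rw [hk, pow_succ, pow_mul, map_mul, map_pow]
      have : φ.rangeRestrict (x ^ 2) = 1 := Subtype.ext h2
      rw [this, one_pow, one_mul]
    refine ⟨x ^ orderOf (x ^ 2), orderOf_eq_prime ?_ fun h => ?_, himg⟩
    · rw [← pow_mul, mul_comm, pow_mul, pow_orderOf_eq_one]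
    · rw [h, map_one] at himg
      rw [← himg, orderOf_one] at hv
      exact absurd hv (by decide)
  have hR : OneFix φ.range ↥(fxAct X Ω) :=
    { one := fun v hv => by
        obtain ⟨x, hx, rfl⟩ := hlift hv
        exact hL.one x hx
      trans := ⟨fun e f => (exists_smul_eq L e f).imp' φ.rangeRestrict fun _ h => h⟩
      invol := hL.invol.imp' φ.rangeRestrict fun _ h => hinv h
      nontrivial := hL.nontrivial }
  obtain ⟨s, hs, t, ht, hne', hst⟩ := exists_four hG hF hX h3 ha hm
  have hmem : ∀ {w : G} (hw : w ∈ invCen X a),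
      φ.rangeRestrict (⟨w, mem_cen hw.2⟩ : L) ∈ invAt φ.range a' := fun {w} hw =>
    ⟨hinv ((Subgroup.orderOf_coe _).symm.trans hw.1.1), Subtype.ext hw.1.2⟩
  have hfour : ∃ v ∈ invAt φ.range a', ∃ w ∈ invAt φ.range a', v ≠ w ∧ v * w = w * v := by
    refine ⟨_, hmem hs, _, hmem ht, fun h => ?_, ?_⟩
    · set s' : L := ⟨s, mem_cen hs.2⟩
      set t' : L := ⟨t, mem_cen ht.2⟩
      refine hnker (x := s' * t') ?_ ?_
      · rw [invol_iff]
        refine ⟨Subtype.ext ?_, fun e => hne' ?_⟩
        · show s * t * (s * t) = 1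
          calc s * t * (s * t) = s * (t * s) * t := by group
            _ = (s * s) * (t * t) := by rw [← hst]; group
            _ = 1 := by rw [invol_mul_self hs.1.1, invol_mul_self ht.1.1, one_mul]
        · have e' : s * t = 1 := congrArg Subtype.val e
          rw [eq_inv_of_mul_eq_one_left e', invol_inv ht.1.1]
      · have h' : φ s' = φ t' := congrArg Subtype.val h
        rw [map_mul, h', ← map_mul, show t' * t' = 1 from Subtype.ext (invol_mul_self ht.1.1), map_one]
    · rw [← map_mul, ← map_mul]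
      exact congrArg _ (Subtype.ext hst)
  obtain ⟨j, hj⟩ := card_ne_eq_two_pow hR (N := Nat.card G)
    (lt_of_le_of_lt (Nat.card_le_card_of_surjective _ φ.rangeRestrict_surjective)
      (lt_of_le_of_ne (Subgroup.card_le_card_group L) fun h => hne (L.card_eq_iff_eq_top.1 h)))
    hbelow hfour
  exact ⟨j, hj ▸ Nat.card_congr
    { toFun := fun e => ⟨⟨e.1, e.2.1⟩, fun h => e.2.2 (congrArg Subtype.val h)⟩
      invFun := fun e => ⟨e.1.1, e.1.2, fun h => e.2 (Subtype.ext h)⟩
      left_inv := fun e => rfl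
      right_inv := fun e => rfl }⟩

end Cfsg.Agent.Lib.BenderOne8
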