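import Mathlib
import Cfsg.Agent.Lib.BenderOne.Assemble
import Cfsg.Agent.Lib.BenderOne20.Bridge
import Cfsg.Agent.Lib.BenderOne8.Transitive

/-!
# Bender's theorem, part one: node C1
-/

set_option autoImplicit false

namespace Cfsg.Agent.Lib.BenderOne8

open MulAction Cfsg.Agent.Lib.Involutions.Basic Cfsg.Agent.Lib.Involutions.StronglyEmbedded
open Cfsg.Agent.Lib.BenderOne20

universe u

variable {G : Type u} [Group G] {H : Subgroup G}

theorem mem_stabilizer_one {g : G} : g ∈ stabilizer G ((1 : G) : G ⧸ H) ↔ g ∈ H := by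
  rw [stabilizer_quotient]

/-- The absence of bad elements is property (F) on the cosets. -/
theorem propF_of_noBad (hNB : BenderOne.NoBad H) : PropF G (G ⧸ H) := by
  intro v x y c hxy hv hc k hk
  obtain ⟨⟨hkx, hky⟩, hkc⟩ := hk
  obtain ⟨r, rfl⟩ := QuotientGroup.mk_surjective c
  obtain ⟨s, hs⟩ := QuotientGroup.mk_surjective (r⁻¹ • x)
  have hvv := invol_mul_self hv.1
  have hkvx : (v * k * v) • x = x := by
    replace hky : k • y = y := hky
    rw [mul_smul, mul_smul, hv.2, hky, smul_swap hv]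
  have hkvc : (v * k * v) • (r : G ⧸ H) = r := by
    rw [mul_smul, mul_smul, hc, (hkc : k • (r : G ⧸ H) = r), hc]
  set j := k⁻¹ * (v * k * v) with hj
  have hjx : j ∈ stabilizer G x := mul_mem (inv_mem hkx) hkvx
  have hjc : j ∈ stabilizer G (r : G ⧸ H) := mul_mem (inv_mem hkc) hkvc
  have hinv : v * j * v = j⁻¹ := by
    rw [hj, mul_inv_rev, inv_inv, mul_inv_rev, mul_inv_rev, invol_inv hv.1]
    calc v * (k⁻¹ * (v * k * v)) * v = v * k⁻¹ * v * k * (v * v) := by group
      _ = v * (k⁻¹ * v) * k := by rw [hvv]; group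
  have key : r⁻¹ * j * r = 1 := by
    refine hNB (r⁻¹ * v * r) _ s ?_ ?_ ?_ ?_ ?_ ?_
    · have := orderOf_conj_eq r⁻¹ v
      rwa [inv_inv, hv.1] at this
    · exact smul_coset_eq_iff.1 hc
    · exact smul_coset_eq_iff.1 hjc
    · intro hsH
      have h1 : (s : G ⧸ H) = ((1 : G) : G ⧸ H) := by
        rw [QuotientGroup.eq, mul_one]; exact inv_mem hsH
      have h2 : x = (r : G ⧸ H) := by
        rw [h1, eq_inv_smul_iff, Quotient.smul_mk, smul_eq_mul, mul_one] at hs
        exact hs.symm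
      exact hxy ((h2.trans hc.symm).trans (by rw [← h2, hv.2]))
    · have h1 : (r⁻¹ * j * r) • (s : G ⧸ H) = (s : G ⧸ H) := by
        rw [hs, mul_smul, mul_smul, smul_inv_smul, (hjx : j • x = x)]
      have h2 := smul_coset_eq_iff.1 h1
      rwa [mul_assoc] at h2
    · rw [mul_inv_rev, mul_inv_rev, inv_inv, mul_inv_rev, mul_inv_rev, inv_inv, invol_inv hv.1,
        ← hinv]
      group
  have hj1 : j = 1 := by
    have := congrArg (fun w => r * w * r⁻¹) key
    simpa [mul_assoc] using this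
  rw [Subgroup.mem_centralizer_singleton_iff]
  have h3 : v * k * v = k := (inv_mul_eq_one.1 hj1).symm
  calc k * v = v * k * v * v := by rw [h3]
    _ = v * k * (v * v) := by group
    _ = v * k := by rw [hvv, mul_one]

theorem one_lt_card_invAt [Finite G] (hfour : HasFour H) :
    1 < Nat.card (invAt G ((1 : G) : G ⧸ H)) := by
  obtain ⟨a, ha, b, hb, hne, -⟩ := hasFour_iff.1 hfour
  exact Finite.one_lt_card_iff_nontrivial.2
    ⟨⟨a, ha⟩, ⟨b, hb⟩, fun h => hne (congrArg Subtype.val h)⟩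

/-- Node C1: without bad elements `H` is transitive on the other cosets. -/
theorem twoTrans_of_noBad [Finite G] (hSE : Cfsg.IsStronglyEmbedded H) (hfour : HasFour H)
    (hNB : BenderOne.NoBad H) : BenderOne.TwoTrans H := by
  intro g₁ g₂ h1 h2
  obtain ⟨h, hh, hx⟩ := two_transitive (oneFix_of_stronglyEmbedded hSE) (propF_of_noBad hNB)
    (one_lt_card_invAt hfour) (a := ((1 : G) : G ⧸ H)) (x := (g₁ : G ⧸ H)) (y := (g₂ : G ⧸ H))
    (BenderOne.ne_one_iff.2 h1) (BenderOne.ne_one_iff.2 h2)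
  refine ⟨h, mem_stabilizer_one.1 hh, ?_⟩
  rw [Quotient.smul_mk, smul_eq_mul, eq_comm, QuotientGroup.eq] at hx
  exact hx

theorem propTwoTrans : BenderOne.PropTwoTrans.{u} :=
  fun _ _ _ _ h hNB => twoTrans_of_noBad h.se h.four hNB

end Cfsg.Agent.Lib.BenderOne8
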