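import Mathlib
import Cfsg.Agent.Lib.BenderOne8.TwoTrans
import Cfsg.Agent.Lib.BenderOne8.SplitCard
import Cfsg.Agent.Lib.BenderOne8.Complement
import Cfsg.Agent.Lib.OddOrder.FeitThompson

/-!
# Bender's theorem, part one: node C2 from the single case

The only input not proved here is `SingleGood`: what is wanted of a `p`-subgroup with three fixed
points which just one involution at `a` centralises.  Everything else follows: the hypothesis
`FixTrans` of the complement theorem holds for the action of a point stabiliser on the other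
points, and gives the regular normal subgroup.
-/

set_option autoImplicit false
set_option linter.style.haveILetI false

namespace Cfsg.Agent.Lib.BenderOne8

open MulAction Cfsg.Agent.Lib.Involutions.Basic
open Cfsg.Agent.Lib.BenderOne20

universe u

/-- The single case: if one involution at `a` centralises `X`, the centraliser of `X` at `a` is
transitive on the other fixed points of `X` and their number is prime to the order of `G_ab`. -/
def SingleGood (G Ω : Type*) [Group G] [MulAction G Ω] : Prop :=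
  ∀ (p : ℕ) (X : Subgroup G) (a b : Ω), p.Prime → IsPGroup p X → X ≠ ⊥ → Three X Ω →
    a ∈ Fx X → b ∈ Fx X → b ≠ a → Nat.card (invCen X a) = 1 →
      (∀ y, y ∈ Fx X → y ≠ a → ∃ h ∈ Subgroup.centralizer (X : Set G), h • a = a ∧ h • b = y) ∧
        (Nat.card {e : Ω // e ∈ Fx X ∧ e ≠ a}).Coprime (Nat.card (pairStab G a b))

/-- The points other than `a` under the stabiliser of `a`. -/
def others (G : Type*) {Ω : Type*} [Group G] [MulAction G Ω] (a : Ω) :
    SubMulAction (stabilizer G a) Ω where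
  carrier := {e | e ≠ a}
  smul_mem' g _ he h := he (MulAction.injective (g : G) (h.trans (g.2 : (g : G) • a = a).symm))

variable {G Ω : Type u} [Group G] [MulAction G Ω] [Finite G]

/-- The fixed point data of a non-trivial subgroup of prime power order. -/
theorem fixed_data (hG : OneFix G Ω) (hF : PropF G Ω) (hS : SingleGood G Ω)
    (hbelow : BenderOne.Below.{u} (Nat.card G)) (hcenter : Subgroup.center G = ⊥) {p : ℕ}
    (hp : p.Prime) {X : Subgroup G} (hX : IsPGroup p X) (hX1 : X ≠ ⊥) {a b : Ω} (hab : b ≠ a)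
    (ha : a ∈ Fx X) (hb : b ∈ Fx X) :
    (Nat.card {e : Ω // e ∈ Fx X ∧ e ≠ a}).Coprime (Nat.card (pairStab G a b)) ∧
      ∀ y, y ∈ Fx X → y ≠ a → ∃ h ∈ Subgroup.centralizer (X : Set G), h • a = a ∧ h • b = y := by
  haveI := Fact.mk hp
  by_cases h3 : ∃ e, e ∈ Fx X ∧ e ≠ a ∧ e ≠ b
  swap
  · push Not at h3
    haveI : Subsingleton {e : Ω // e ∈ Fx X ∧ e ≠ a} :=
      ⟨fun e f => Subtype.ext ((h3 e.1 e.2.1 e.2.2).trans (h3 f.1 f.2.1 f.2.2).symm)⟩
    refine ⟨?_, fun y hy hya => ⟨1, one_mem _, one_smul _ _, (one_smul _ _).trans (h3 y hy hya).symm⟩⟩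
    rw [Nat.card_of_subsingleton (⟨b, hb, hab⟩ : {e : Ω // e ∈ Fx X ∧ e ≠ a})]
    exact Nat.coprime_one_left _
  obtain ⟨e, he, hea, heb⟩ := h3
  have h3' : Three X Ω := ⟨a, b, e, hab.symm, hea, heb, ha, hb, he⟩
  obtain ⟨s, hs⟩ := exists_cen hG hF hX h3' ha
  haveI : Nonempty ↥(invCen X a) := ⟨⟨s, hs⟩⟩
  rcases Nat.eq_or_lt_of_le (show 1 ≤ Nat.card (invCen X a) from Nat.card_pos) with h1 | h1
  · exact (hS p X a b hp hX hX1 h3' ha hb hab h1.symm).symm
  refine ⟨?_, fun y hy hya => cen_two_transitive hG hF hX h3' ha hb hy h1 hab hya⟩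
  obtain ⟨j, hj⟩ := card_Fx_eq_two_pow hG hF hX h3' ha h1 hbelow fun htop => hX1 (eq_bot_iff.2
    fun k hk => by
      rw [← hcenter, Subgroup.mem_center_iff]
      intro g
      exact (Subgroup.mem_centralizer_iff.1 (htop.ge (Subgroup.mem_top g)) k hk).symm)
  rw [hj]
  exact (Nat.coprime_two_left.2 (hG.odd_pairStab hab.symm)).pow_left j

/-- The stabiliser of two points has index prime to its order in the stabiliser of one. -/
theorem coprime_others (hG : OneFix G Ω) (hF : PropF G Ω) (hS : SingleGood G Ω)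
    (hbelow : BenderOne.Below.{u} (Nat.card G)) (hcenter : Subgroup.center G = ⊥) {a b : Ω}
    (hab : b ≠ a) (hm : 1 < Nat.card (invAt G a)) :
    (Nat.card (others G a)).Coprime (Nat.card (pairStab G a b)) := by
  set D := pairStab G a b
  refine Nat.coprime_of_dvd fun q hq h1 h2 => ?_
  haveI := Fact.mk hq
  obtain ⟨T, hT, -⟩ := SylowIn.exists_ge (D := D) (IsPGroup.of_bot : IsPGroup q (⊥ : Subgroup G)) bot_le
  have hT1 : T ≠ ⊥ := by
    intro e
    have h := hT.2
    rw [e, Subgroup.card_bot] at h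
    exact (Nat.one_lt_pow (hq.factorization_pos_of_dvd Nat.card_pos.ne' h2).ne' hq.one_lt).ne h
  have haT : a ∈ Fx T := hT.1.trans inf_le_left
  have hbT : b ∈ Fx T := hT.1.trans inf_le_right
  obtain ⟨hcop, -⟩ := fixed_data hG hF hS hbelow hcenter hq hT.isPGroup hT1 hab haT hbT
  set E := stabilizer G a ⊓ Subgroup.normalizer (T : Set G)
  obtain ⟨T₂, hT₂, hTT₂⟩ := SylowIn.exists_ge (D := E) hT.isPGroup
    (le_inf haT Subgroup.le_normalizer)
  letI : MulAction T₂ {e : Ω // e ∈ Fx T ∧ e ≠ a} :=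
    { smul := fun g e => ⟨(g : G) • e.1, smul_mem_Fx (hT₂.1 g.2).2 e.2.1, fun h =>
        e.2.2 (MulAction.injective (g : G) (h.trans ((hT₂.1 g.2).1 : (g : G) • a = a).symm))⟩
      one_smul := fun e => Subtype.ext (one_smul G e.1)
      mul_smul := fun g h e => Subtype.ext (mul_smul (g : G) (h : G) e.1) }
  haveI : Finite {e : Ω // e ∈ Fx T ∧ e ≠ a} := by
    haveI := hG.trans
    haveI : Finite Ω := Finite.of_surjective (fun g : G => g • a) (fun z => exists_smul_eq G a z)
    infer_instance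
  obtain ⟨⟨y, hy, hya⟩, hfix⟩ : (fixedPoints T₂ {e : Ω // e ∈ Fx T ∧ e ≠ a}).Nonempty :=
    hT₂.isPGroup.nonempty_fixed_point_of_prime_not_dvd_card _ fun hd =>
      hq.not_dvd_one (hcop ▸ Nat.dvd_gcd hd h2)
  have hle : T₂ ≤ pairStab G a y := fun g hg =>
    ⟨(hT₂.1 hg).1, congrArg Subtype.val (hfix ⟨g, hg⟩)⟩
  obtain ⟨g, hga, hgb⟩ := two_transitive hG hF hm hab hya
  have hcard : Nat.card (pairStab G a y) = Nat.card D := by
    have : pairStab G a y = D.map (MulAut.conj g).toMonoidHom := by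
      rw [Subgroup.map_inf _ _ _ (MulAut.conj g).injective,
        ← MulAction.stabilizer_smul_eq_stabilizer_map_conj,
        ← MulAction.stabilizer_smul_eq_stabilizer_map_conj, hga, hgb]
    rw [this, Subgroup.card_map_of_injective (MulAut.conj g).injective]
  have hTy : SylowIn q T (pairStab G a y) := hT.of_ge (hTT₂.trans hle) hcard
  have hTE : SylowIn q T E := (hTy.eq_of_le hTT₂ hle hT₂.isPGroup) ▸ hT₂
  have hTH : SylowIn q T (stabilizer G a) := SylowIn.of_normalizer haT hTE le_rfl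
  have hidx : Nat.card (others G a) * Nat.card D = Nat.card (stabilizer G a) := by
    haveI : IsPretransitive (stabilizer G a) (others G a) := ⟨fun e f => by
      obtain ⟨h, h1, h2⟩ := two_transitive hG hF hm e.2 f.2
      exact ⟨⟨h, h1⟩, Subtype.ext h2⟩⟩
    rw [← index_stabilizer_of_transitive (stabilizer G a) (⟨b, hab⟩ : others G a),
      show Nat.card D = Nat.card (stabilizer (stabilizer G a) (⟨b, hab⟩ : others G a)) from
        Nat.card_congr
          { toFun := fun d => ⟨⟨d.1, d.2.1⟩, Subtype.ext d.2.2⟩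
            invFun := fun d => ⟨d.1.1, d.1.2, congrArg Subtype.val d.2⟩
            left_inv := fun d => rfl
            right_inv := fun d => rfl }, Subgroup.index_mul_card]
  have hpow := hT.2.symm.trans hTH.2
  have hfac := Nat.pow_right_injective hq.two_le hpow
  have hne : Nat.card (others G a) ≠ 0 := fun h0 => by
    rw [h0, zero_mul] at hidx
    exact Nat.card_pos.ne hidx
  rw [← hidx, Nat.factorization_mul hne Nat.card_pos.ne',
    Finsupp.add_apply] at hfac
  have hpos : 0 < (Nat.card (others G a)).factorization q :=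
    hq.factorization_pos_of_dvd hne h1
  omega

/-- A point stabiliser satisfies the hypothesis of the complement theorem. -/
theorem fixTrans_others (hG : OneFix G Ω) (hF : PropF G Ω) (hS : SingleGood G Ω)
    (hbelow : BenderOne.Below.{u} (Nat.card G)) (hcenter : Subgroup.center G = ⊥) {a : Ω}
    (hm : 1 < Nat.card (invAt G a)) (b : others G a) : FixTrans (stabilizer G a) b := by
  have hst : Nat.card (stabilizer (stabilizer G a) b) = Nat.card (pairStab G a (b : Ω)) :=
    Nat.card_congr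
      { toFun := fun d => ⟨d.1.1, d.1.2, congrArg Subtype.val d.2⟩
        invFun := fun d => ⟨⟨d.1, d.2.1⟩, Subtype.ext d.2.2⟩
        left_inv := fun d => rfl
        right_inv := fun d => rfl }
  intro p X hp hX hXb
  set X' := X.map (stabilizer G a).subtype
  have hX'a : a ∈ Fx X' := Subgroup.map_subtype_le _
  have hiff : ∀ y : others G a, X ≤ stabilizer (stabilizer G a) y ↔ (y : Ω) ∈ Fx X' := by
    intro y
    constructor
    · rintro h _ ⟨k, hk, rfl⟩
      exact congrArg Subtype.val (h hk)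
    · exact fun h k hk => Subtype.ext (h ⟨k, hk, rfl⟩)
  have hcard : Nat.card {y : others G a // X ≤ stabilizer (stabilizer G a) y} =
      Nat.card {e : Ω // e ∈ Fx X' ∧ e ≠ a} := Nat.card_congr
    { toFun := fun y => ⟨y.1.1, (hiff y.1).1 y.2, y.1.2⟩
      invFun := fun e => ⟨⟨e.1, e.2.2⟩, (hiff _).2 e.2.1⟩
      left_inv := fun y => rfl
      right_inv := fun e => rfl }
  by_cases hX1 : X = ⊥
  · subst hX1
    refine ⟨?_, fun y _ => ?_⟩
    · rw [Nat.card_congr (Equiv.subtypeUnivEquiv fun y => bot_le), hst]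
      exact coprime_others hG hF hS hbelow hcenter b.2 hm
    · obtain ⟨h, h1, h2⟩ := two_transitive hG hF hm b.2 y.2
      exact ⟨⟨h, h1⟩, Subgroup.mem_centralizer_iff.2 fun k hk => by
        rw [Subgroup.mem_bot.1 hk, one_mul, mul_one], Subtype.ext h2⟩
  have hX'1 : X' ≠ ⊥ := fun h => hX1
    ((X.map_eq_bot_iff_of_injective (stabilizer G a).subtype_injective).1 h)
  obtain ⟨hcop, htr⟩ := fixed_data hG hF hS hbelow hcenter hp (hX.map _) hX'1 b.2 hX'a
    ((hiff b).1 hXb)
  refine ⟨by rw [hcard, hst]; exact hcop, fun y hy => ?_⟩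
  obtain ⟨h, hc, h1, h2⟩ := htr y ((hiff y).1 hy) y.2
  exact ⟨⟨h, h1⟩, Subgroup.mem_centralizer_iff.2 fun k hk =>
    Subtype.ext (Subgroup.mem_centralizer_iff.1 hc k ⟨k, hk, rfl⟩), Subtype.ext h2⟩

/-- A regular normal subgroup of a point stabiliser. -/
theorem exists_regular_subgroup (hG : OneFix G Ω) (hF : PropF G Ω) (hS : SingleGood G Ω)
    (hbelow : BenderOne.Below.{u} (Nat.card G)) (hcenter : Subgroup.center G = ⊥) {a : Ω}
    (hm : 1 < Nat.card (invAt G a)) : ∃ Q : Subgroup G, Q ≤ stabilizer G a ∧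
      (∀ h ∈ stabilizer G a, ∀ q ∈ Q, h * q * h⁻¹ ∈ Q) ∧
      (∀ q ∈ Q, ∀ y, y ≠ a → q • y = y → q = 1) ∧
      ∀ y z, y ≠ a → z ≠ a → ∃ q ∈ Q, q • y = z := by
  haveI := hG.nontrivial
  obtain ⟨b, hb⟩ := exists_ne a
  let b' : others G a := ⟨b, hb⟩
  have hFT := fixTrans_others hG hF hS hbelow hcenter hm b'
  have hodd : Odd (Nat.card (stabilizer (stabilizer G a) b')) :=
    (hG.odd_pairStab hb.symm).of_dvd_nat (Subgroup.card_dvd_of_injective
      (((stabilizer G a).subtype.comp (stabilizer (stabilizer G a) b').subtype).codRestrict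
        (pairStab G a b) fun d => ⟨d.1.2, congrArg Subtype.val d.2⟩)
      fun x y hxy => Subtype.ext (Subtype.ext (congrArg (fun z : pairStab G a b => (z : G)) hxy :)))
  obtain ⟨R, hR, hRt⟩ := FixTrans.exists_regular _ rfl
    (OddOrder.FeitThompson.isSolvable_of_odd_card hodd) hFT
  haveI := hFT.pretransitive
  refine ⟨R.map (stabilizer G a).subtype, Subgroup.map_subtype_le _, ?_, ?_, ?_⟩
  · rintro h hh _ ⟨r, hr, rfl⟩
    refine ⟨⟨h, hh⟩ * r * ⟨h, hh⟩⁻¹, (hR _).2 ?_, rfl⟩
    rw [orderOf_conj_eq]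
    exact (hR r).1 hr
  · rintro _ ⟨r, hr, rfl⟩ y hy hq
    let y' : others G a := ⟨y, hy⟩
    have hfix : r • y' = y' := Subtype.ext hq
    obtain ⟨h, hh⟩ := exists_smul_eq (stabilizer G a) y' b'
    have h1 : h * r * h⁻¹ ∈ stabilizer (stabilizer G a) b' := by
      show (h * r * h⁻¹) • b' = b'
      rw [mul_smul, mul_smul, inv_smul_eq_iff.2 hh.symm, hfix, hh]
    have h2 : orderOf (h * r * h⁻¹) = 1 :=
      Nat.Coprime.eq_one_of_dvd (by rw [orderOf_conj_eq]; exact (hR r).1 hr)
        (Subgroup.orderOf_dvd_natCard _ h1)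
    rw [orderOf_conj_eq, orderOf_eq_one_iff] at h2
    rw [h2, map_one]
  · intro y z hy hz
    let y₁ : others G a := ⟨y, hy⟩
    let y₂ : others G a := ⟨z, hz⟩
    obtain ⟨r₁, hr₁, hr₁'⟩ := hRt y₁
    obtain ⟨r₂, hr₂, hr₂'⟩ := hRt y₂
    refine ⟨_, ⟨r₂ * r₁⁻¹, mul_mem hr₂ (inv_mem hr₁), rfl⟩, ?_⟩
    have h3 : (r₂ * r₁⁻¹) • y₁ = y₂ := by rw [mul_smul, inv_smul_eq_iff.2 hr₁'.symm, hr₂']
    exact congrArg Subtype.val h3

omit [Finite G] in
theorem center_eq_bot [IsSimpleGroup G] {H : Subgroup G} (hbot : H ≠ ⊥) (htop : H ≠ ⊤) :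
    Subgroup.center G = ⊥ := by
  refine (Subgroup.Normal.eq_bot_or_eq_top inferInstance).resolve_right fun h => ?_
  have hn : H.Normal := ⟨fun x hx g => by
    rwa [Subgroup.mem_center_iff.1 (h.ge (Subgroup.mem_top x)) g, mul_inv_cancel_right]⟩
  exact (hn.eq_bot_or_eq_top).elim hbot htop

/-- Node C2 from the single case. -/
theorem regular_of_singleGood {H : Subgroup G} (hmin : BenderOne.Min G H)
    (hNB : BenderOne.NoBad H) (hS : SingleGood G (G ⧸ H)) :
    ∃ Q : Subgroup G, BenderOne.Regular H Q := by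
  haveI := hmin.simple
  set a : G ⧸ H := ((1 : G) : G ⧸ H)
  have hG := oneFix_of_stronglyEmbedded hmin.se
  have hF := propF_of_noBad hNB
  have hm : 1 < Nat.card (invAt G a) := one_lt_card_invAt hmin.four
  have hcenter : Subgroup.center G = ⊥ := center_eq_bot (H := H) (fun h => by
    have := hmin.se.2.1
    rw [h, Subgroup.card_bot] at this
    exact Nat.not_even_one this) hmin.se.1
  obtain ⟨Q, hQ, hconj, hfree, htr⟩ :=
    exists_regular_subgroup hG hF hS hmin.below hcenter hm (a := a)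
  refine ⟨Q, ⟨fun q hq => mem_stabilizer_one.1 (hQ hq),
    fun h hh q hq => hconj h (mem_stabilizer_one.2 hh) q hq,
    fun g hg q hq hqg => hfree q hq _ (BenderOne.ne_one_iff.2 hg)
      (BenderOne.smul_eq_self_iff.2 hqg), fun g₁ g₂ h1 h2 => ?_⟩⟩
  obtain ⟨q, hq, hq'⟩ := htr _ _ (BenderOne.ne_one_iff.2 h1) (BenderOne.ne_one_iff.2 h2)
  refine ⟨q, hq, ?_⟩
  rw [Quotient.smul_mk, smul_eq_mul, eq_comm, QuotientGroup.eq] at hq'
  exact hq'

/-- The gap of node C2. -/
def PropSingle.{w} : Prop :=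
  BenderSuzuki.PropMain.{w, w} →
    ∀ (X : Type w) [Group X] [Finite X] (K : Subgroup X), BenderOne.Min X K →
      BenderOne.CoreCentral K → BenderOne.NoBad K → BenderOne.TwoTrans K → SingleGood X (X ⧸ K)

theorem propRegular (hP : PropSingle.{u}) : BenderOne.PropRegular.{u} :=
  fun hM _ _ _ K h hA hNB hT => regular_of_singleGood h hNB (hP hM _ K h hA hNB hT)

end Cfsg.Agent.Lib.BenderOne8
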